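import Groth.Prelude.Def_RelProj3
import Groth.Agent.GrModFrac.Basic
import Groth.Agent.QCohLib.Basic
import Mathlib.Algebra.Category.ModuleCat.Abelian

/-!
# Induced maps of `M(n)~` on `D₊(g)`; a basis of the relative Proj
-/

set_option autoImplicit false
universe u
open CategoryTheory CategoryTheory.Limits AlgebraicGeometry Opposite TopologicalSpace

namespace Groth.Agent.GrModFrac

section ring

variable {A σ : Type u} [CommRing A] [SetLike σ A] [AddSubgroupClass σ A] (𝒜 : ℕ → σ) [GradedRing 𝒜]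
variable {M τ : Type u} [AddCommGroup M] [Module A M] [SetLike τ M] [AddSubgroupClass τ M] (ℳ : ℕ → τ)
  [SetLike.GradedSMul 𝒜 ℳ] [DirectSum.Decomposition ℳ]
variable {N τ' : Type u} [AddCommGroup N] [Module A N] [SetLike τ' N] [AddSubgroupClass τ' N] (𝒩 : ℕ → τ')
  [SetLike.GradedSMul 𝒜 𝒩] [DirectSum.Decomposition 𝒩]
variable (u : M →ₗ[A] N) (hu : ∀ (i : ℕ) (m : M), m ∈ ℳ i → u m ∈ 𝒩 i) (n : ℤ)

/-- A map injective in large degrees is injective on sections over basic opens. -/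
theorem map_app_injective_of_eventually (n₀ : ℕ) (hinj : ∀ k, n₀ ≤ k → ∀ m ∈ ℳ k, u m = 0 → m = 0)
    {d : ℕ} (hd : 0 < d) {g : A} (hg : g ∈ 𝒜 d) :
    Function.Injective ((GrMod.map 𝒜 u hu n).app (Proj.basicOpen 𝒜 g)) := by
  refine (injective_iff_map_eq_zero _).mpr fun s hs => ?_
  obtain ⟨k, i, m, hm, hi, hval⟩ :=
    exists_frac_basicOpen 𝒜 ℳ n hd hg (s : GrMod.sect 𝒜 ℳ n (op (Proj.basicOpen 𝒜 g)))
  obtain ⟨L, hL⟩ := exists_pow_smul_eq_zero 𝒜 𝒩 hd hg k i ⟨u m, hu i m hm⟩ (by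
    intro x
    have h0 : GrMod.val ((GrMod.map 𝒜 u hu n).app (Proj.basicOpen 𝒜 g) s) ⟨x.1, x.2⟩ = 0 := by
      rw [hs]; rfl
    rw [GrMod.map_app_val] at h0
    have h1 : GrMod.val s ⟨x.1, x.2⟩ = LocalizedModule.mk m (⟨g ^ k,
        fun h => x.2 (x.1.isPrime.mem_of_pow_mem k h)⟩ : x.1.asHomogeneousIdeal.toIdeal.primeCompl) :=
      hval x.1 x.2
    rw [h1, GrMod.locMap_mk] at h0
    exact h0)
  have hgp : g ^ (n₀ + L) ∈ 𝒜 ((n₀ + L) * d) := by simpa [smul_eq_mul] using SetLike.pow_mem_graded (n₀ + L) hg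
  have hzero : g ^ (n₀ + L) • m = 0 := by
    refine hinj ((n₀ + L) * d + i) ?_ _ (SetLike.GradedSMul.smul_mem hgp hm) ?_
    · exact le_trans (le_trans (Nat.le_add_right _ L) (Nat.le_mul_of_pos_right _ hd)) (Nat.le_add_right _ _)
    · rw [map_smul, pow_add, mul_smul, hL, smul_zero]
  refine Subtype.ext (funext fun x => Subtype.ext ?_)
  refine (hval x.1 x.2).trans ?_
  show _ = (0 : GrMod.LocMod 𝒜 (M := M) x.1)
  rw [← LocalizedModule.zero_mk 1, LocalizedModule.mk_eq]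
  refine ⟨⟨g ^ (n₀ + L), fun h => x.2 (x.1.isPrime.mem_of_pow_mem _ h)⟩, ?_⟩
  simp only [Submonoid.smul_def, one_smul, smul_zero, OneMemClass.coe_one]
  exact hzero

/-- A map surjective in large degrees is surjective on sections over basic opens. -/
theorem map_app_surjective_of_eventually (n₀ : ℕ) (hsurj : ∀ k, n₀ ≤ k → ∀ b ∈ 𝒩 k, ∃ m ∈ ℳ k, u m = b)
    {d : ℕ} (hd : 0 < d) {g : A} (hg : g ∈ 𝒜 d) :
    Function.Surjective ((GrMod.map 𝒜 u hu n).app (Proj.basicOpen 𝒜 g)) := by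
  intro t
  obtain ⟨k, i, b, hb, hi, hval⟩ :=
    exists_frac_basicOpen 𝒜 𝒩 n hd hg (t : GrMod.sect 𝒜 𝒩 n (op (Proj.basicOpen 𝒜 g)))
  have hgn : g ^ n₀ ∈ 𝒜 (n₀ * d) := by simpa [smul_eq_mul] using SetLike.pow_mem_graded n₀ hg
  obtain ⟨m, hm, hum⟩ := hsurj (n₀ * d + i) (le_trans (Nat.le_mul_of_pos_right _ hd) (Nat.le_add_right _ _)) _
    (SetLike.GradedSMul.smul_mem hgn hb)
  have hgk : g ^ (k + n₀) ∈ 𝒜 ((k + n₀) * d) := by simpa [smul_eq_mul] using SetLike.pow_mem_graded (k + n₀) hg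
  have hdeg : ((n₀ * d + i : ℕ) : ℤ) = ((k + n₀) * d : ℕ) + n := by push_cast; rw [hi]; ring
  let s : GrMod.sect 𝒜 ℳ n (op (Proj.basicOpen 𝒜 g)) :=
    ⟨fun x => ⟨LocalizedModule.mk m ⟨g ^ (k + n₀), fun h => x.2 (x.1.isPrime.mem_of_pow_mem _ h)⟩,
      Submodule.subset_span ⟨n₀ * d + i, (k + n₀) * d, ⟨m, hm⟩, ⟨_, hgk⟩, _, hdeg, rfl⟩⟩,
     fun x => ⟨Proj.basicOpen 𝒜 g, x.2, 𝟙 _, n₀ * d + i, (k + n₀) * d, ⟨m, hm⟩, ⟨_, hgk⟩,
      fun y h => y.2 (y.1.isPrime.mem_of_pow_mem _ h), Or.inl hdeg, fun y => rfl⟩⟩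
  refine ⟨s, Subtype.ext (funext fun x => Subtype.ext ?_)⟩
  refine Eq.trans ?_ (hval x.1 x.2).symm
  show GrMod.locMap u x.1 (LocalizedModule.mk m _) = _
  rw [GrMod.locMap_mk, hum, LocalizedModule.mk_eq]
  refine ⟨1, ?_⟩
  simp [Submonoid.smul_def, smul_smul, pow_add]

/-- A module vanishing in large degrees has no nonzero sections over basic opens. -/
theorem sect_eq_zero_of_eventually (n₀ : ℕ) (hz : ∀ k, n₀ ≤ k → ∀ m ∈ ℳ k, m = 0)
    {d : ℕ} (hd : 0 < d) {g : A} (hg : g ∈ 𝒜 d) (s : Γ(GrMod.tilde 𝒜 ℳ n, Proj.basicOpen 𝒜 g)) : s = 0 := by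
  obtain ⟨k, i, m, hm, hi, hval⟩ :=
    exists_frac_basicOpen 𝒜 ℳ n hd hg (s : GrMod.sect 𝒜 ℳ n (op (Proj.basicOpen 𝒜 g)))
  have hgn : g ^ n₀ ∈ 𝒜 (n₀ * d) := by simpa [smul_eq_mul] using SetLike.pow_mem_graded n₀ hg
  have h0 : g ^ n₀ • m = 0 :=
    hz (n₀ * d + i) (le_trans (Nat.le_mul_of_pos_right _ hd) (Nat.le_add_right _ _)) _
      (SetLike.GradedSMul.smul_mem hgn hm)
  refine Subtype.ext (funext fun x => Subtype.ext ?_)
  refine (hval x.1 x.2).trans ?_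
  show _ = (0 : GrMod.LocMod 𝒜 (M := M) x.1)
  rw [← LocalizedModule.zero_mk 1, LocalizedModule.mk_eq]
  refine ⟨⟨g ^ n₀, fun h => x.2 (x.1.isPrime.mem_of_pow_mem _ h)⟩, ?_⟩
  simp only [Submonoid.smul_def, one_smul, smul_zero, OneMemClass.coe_one]
  exact h0

end ring

section sheaf

variable {X : Scheme.{u}}

/-- Injectivity on a basis gives injectivity on all opens. -/
theorem app_injective_of_basis {M N : X.Modules} (φ : M ⟶ N) {B : Set X.Opens} (hB : Opens.IsBasis B)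
    (h : ∀ W ∈ B, Function.Injective (φ.app W)) (U : X.Opens) : Function.Injective (φ.app U) := by
  refine (injective_iff_map_eq_zero _).mpr fun s hs => ?_
  have hcov : ∀ x ∈ U, ∃ W : X.Opens, W ∈ B ∧ x ∈ W ∧ W ≤ U := fun x hx => Opens.isBasis_iff_nbhd.mp hB hx
  choose W hWB hxW hWU using hcov
  refine TopCat.Sheaf.eq_of_locally_eq' ⟨M.presheaf, M.isSheaf⟩ (fun x : U => W x.1 x.2) U
    (fun x => homOfLE (hWU x.1 x.2))
    (fun x hx => Opens.mem_iSup.mpr ⟨⟨x, hx⟩, hxW x hx⟩) _ _ fun x => ?_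
  apply h _ (hWB x.1 x.2)
  refine (QCohLib.app_map φ (hWU x.1 x.2) s).trans ?_
  rw [hs, map_zero]
  exact ((congrArg _ (map_zero _)).trans (map_zero _)).symm

/-- A complex of modules exact on the sections over a basis is exact. -/
theorem exact_of_basis {M₁ M₂ M₃ : X.Modules} (a : M₁ ⟶ M₂) (b : M₂ ⟶ M₃) (w : a ≫ b = 0)
    {B : Set X.Opens} (hB : Opens.IsBasis B)
    (h : ∀ W ∈ B, Function.Exact (a.app W) (b.app W)) : (ShortComplex.mk a b w).Exact := by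
  have : Epi (kernel.lift b a w) := by
    refine QCohLib.epi_of_app_surjective _ hB fun W hW t => ?_
    have hb : b.app W ((kernel.ι b).app W t) = 0 := by
      have := congrArg (fun f : kernel b ⟶ M₃ => f.app W t) (kernel.condition b)
      exact this
    obtain ⟨s, hs⟩ := (h W hW _).mp hb
    refine ⟨s, (QCohLib.mono_iff_app_injective (kernel.ι b)).mp inferInstance W ?_⟩
    refine Eq.trans ?_ hs
    exact congrArg (fun f : M₁ ⟶ M₂ => f.app W s) (kernel.lift_ι b a w)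
  exact (ShortComplex.mk a b w).exact_iff_epi_kernel_lift.mpr this

end sheaf

section relProj

variable {Y P : Scheme.{u}} {𝒮 : RelProj.QCGrAlg Y} {p : P ⟶ Y}
  (chart : ∀ (U : Y.Opens) (hU : IsAffineOpen U), (((p ⁻¹ᵁ U : P.Opens) : Scheme.{u}) ≅ Proj (𝒮.deg U hU)))

instance isOpenImmersion_emb (U : Y.Opens) (hU : IsAffineOpen U) : IsOpenImmersion (RelProj.emb p chart U hU) := by
  unfold RelProj.emb; infer_instance

/-- The images of the `D₊(g)`, `g` homogeneous of positive degree. -/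
def relBasis : Set P.Opens :=
  {W | ∃ (U : Y.Opens) (hU : IsAffineOpen U) (e : ℕ) (g : 𝒮.presheaf.obj (op U)), 0 < e ∧
    g ∈ 𝒮.deg U hU e ∧ W = RelProj.emb p chart U hU ''ᵁ Proj.basicOpen (𝒮.deg U hU) g}

theorem isBasis_relBasis : Opens.IsBasis (relBasis chart) := by
  refine Opens.isBasis_iff_nbhd.mpr fun {W x} hx => ?_
  obtain ⟨U, hU, hxU, -⟩ := exists_isAffineOpen_mem_and_subset (X := Y) (x := p x) (U := ⊤) trivial
  let f := RelProj.emb p chart U hU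
  obtain ⟨y, rfl⟩ : x ∈ Set.range f := by
    refine ⟨(chart U hU).hom ⟨x, hxU⟩, ?_⟩
    show (p ⁻¹ᵁ U).ι ((chart U hU).inv ((chart U hU).hom ⟨x, hxU⟩)) = x
    rw [← Scheme.Hom.comp_apply, ← Scheme.Hom.comp_apply, Iso.hom_inv_id_assoc]
    rfl
  have hy : y ∈ f ⁻¹ᵁ W := hx
  obtain ⟨_, ⟨h, rfl⟩, hxh, hhW⟩ :=
    (ProjectiveSpectrum.isTopologicalBasis_basic_opens (𝒮.deg U hU)).exists_subset_of_mem_open hy (f ⁻¹ᵁ W).2
  simp only at hxh hhW
  have heq := ProjectiveSpectrum.basicOpen_eq_union_of_projection (𝒮.deg U hU) h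
  rw [SetLike.mem_coe, heq, Opens.mem_iSup] at hxh
  obtain ⟨e, he⟩ := hxh
  obtain ⟨r, q, hq, hq0, hyq⟩ : ∃ (r : ℕ) (q : _), q ∈ 𝒮.deg U hU r ∧ 0 < r ∧
      q ∉ (show ProjectiveSpectrum (𝒮.deg U hU) from y).asHomogeneousIdeal := by
    by_contra hc
    push Not at hc
    exact (show ProjectiveSpectrum (𝒮.deg U hU) from y).not_irrelevant_le
      ((HomogeneousIdeal.irrelevant_le (𝒮.deg U hU)).mpr fun i hi z hz => hc i z hz hi)
  let g := GradedRing.proj (𝒮.deg U hU) e h * q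
  refine ⟨f ''ᵁ Proj.basicOpen (𝒮.deg U hU) g, ⟨U, hU, e + r, g, by omega,
    SetLike.mul_mem_graded (DirectSum.decompose (𝒮.deg U hU) h e).2 hq, rfl⟩,
    ⟨y, fun hc => ((show ProjectiveSpectrum (𝒮.deg U hU) from y).isPrime.mem_or_mem hc).elim he hyq, rfl⟩, ?_⟩
  rintro _ ⟨z, hz, rfl⟩
  refine hhW ?_
  rw [SetLike.mem_coe, heq, Opens.mem_iSup]
  exact ⟨e, fun hc => hz (Ideal.mul_mem_right _ _ hc)⟩

theorem le_preimage_of_image (U : Y.Opens) (hU : IsAffineOpen U) (V : (Proj (𝒮.deg U hU)).Opens) :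
    RelProj.emb p chart U hU ''ᵁ V ≤ p ⁻¹ᵁ U := by
  rintro _ ⟨z, -, rfl⟩
  exact ((chart U hU).inv z).2

end relProj

end Groth.Agent.GrModFrac
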