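import Groth.Prelude.Def_RelProj3
import Groth.Agent.QCohLib.Basic
import Groth.Agent.GrModFrac.RelTilde

/-!
# Morphisms of modules defined through local identifications; morphisms between `(M(n))~` on a relative Proj
-/

set_option autoImplicit false
universe u
open CategoryTheory CategoryTheory.Limits AlgebraicGeometry Opposite TopologicalSpace

namespace Groth.Agent.GrModFrac

section general

variable {X : Scheme.{u}} {F G : X.Modules} {ι : Type*} (O : ι → X.Opens) {T : ι → X.Modules}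
  (lam' : ∀ i, G ⟶ T i) (β : ∀ i, F ⟶ T i)

/-- A morphism `F ⟶ G` is determined by, and glued from, compatible local identifications. -/
theorem existsUnique_hom_of_local (hcov : ∀ x : X, ∃ i, x ∈ O i)
    (hbij : ∀ i (W : X.Opens), W ≤ O i → Function.Bijective ((lam' i).app W))
    (hres : ∀ i (W : X.Opens),
      Function.Injective ((T i).presheaf.map (homOfLE (inf_le_left : W ⊓ O i ≤ W)).op))
    (hglue : ∀ i j (x : X), x ∈ O i → x ∈ O j → ∃ k, x ∈ O k ∧
      ∀ (W : X.Opens), W ≤ O k → ∀ (s : Γ(F, W)) (g : Γ(G, W)),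
        ((lam' i).app W g = (β i).app W s → (lam' k).app W g = (β k).app W s) ∧
          ((lam' j).app W g = (β j).app W s → (lam' k).app W g = (β k).app W s)) :
    ∃! φ : F ⟶ G, ∀ i, φ ≫ lam' i = β i := by
  have uniq : ∀ (W : X.Opens) (g g' : Γ(G, W)), (∀ i, (lam' i).app W g = (lam' i).app W g') → g = g' := by
    intro W g g' h
    refine TopCat.Sheaf.eq_of_locally_eq' ⟨G.presheaf, G.isSheaf⟩ (fun i => W ⊓ O i) W
      (fun i => homOfLE inf_le_left)
      (fun x hx => Opens.mem_iSup.mpr ((hcov x).imp fun i hi => ⟨hx, hi⟩)) _ _ fun i => ?_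
    refine (hbij i _ inf_le_right).1 ((QCohLib.app_map (lam' i) inf_le_left g).trans ?_)
    exact ((congrArg _ (h i))).trans (QCohLib.app_map (lam' i) inf_le_left g').symm
  have ex : ∀ (W : X.Opens) (s : Γ(F, W)), ∃! g : Γ(G, W), ∀ i, (lam' i).app W g = (β i).app W s := by
    intro W s
    choose gl hgl using fun i => (hbij i (W ⊓ O i) inf_le_right).2
      ((β i).app _ (F.presheaf.map (homOfLE (inf_le_left : W ⊓ O i ≤ W)).op s))
    obtain ⟨g, hg, -⟩ := TopCat.Sheaf.existsUnique_gluing' ⟨G.presheaf, G.isSheaf⟩ (fun i => W ⊓ O i) W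
      (fun i => homOfLE inf_le_left)
      (fun x hx => Opens.mem_iSup.mpr ((hcov x).imp fun i hi => ⟨hx, hi⟩)) gl (by
        intro i j
        let V := (W ⊓ O i) ⊓ (W ⊓ O j)
        have hx : ∀ x : V, ∃ k, x.1 ∈ O k ∧ ∀ (W : X.Opens), W ≤ O k → ∀ (s : Γ(F, W)) (g : Γ(G, W)),
          ((lam' i).app W g = (β i).app W s → (lam' k).app W g = (β k).app W s) ∧
            ((lam' j).app W g = (β j).app W s → (lam' k).app W g = (β k).app W s) :=
          fun x => hglue i j x.1 x.2.1.2 x.2.2.2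
        choose k hk using hx
        refine TopCat.Sheaf.eq_of_locally_eq' ⟨G.presheaf, G.isSheaf⟩ (fun x : V => V ⊓ O (k x)) V
          (fun x => homOfLE inf_le_left)
          (fun x hx => Opens.mem_iSup.mpr ⟨⟨x, hx⟩, hx, (hk ⟨x, hx⟩).1⟩) _ _ fun x => ?_
        refine (QCohLib.map_map G inf_le_left inf_le_left (gl i)).trans ?_
        refine Eq.trans ?_ (QCohLib.map_map G inf_le_left inf_le_right (gl j)).symm
        apply (hbij (k x) _ inf_le_right).1
        have hV : V ⊓ O (k x) ≤ W := inf_le_left.trans (inf_le_left.trans inf_le_left)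
        rw [((hk x).2 _ inf_le_right (F.presheaf.map (homOfLE hV).op s) _).1 ?_,
          ((hk x).2 _ inf_le_right (F.presheaf.map (homOfLE hV).op s) _).2 ?_]
        · rw [QCohLib.app_map, hgl, ← QCohLib.app_map, QCohLib.map_map]
        · rw [QCohLib.app_map, hgl, ← QCohLib.app_map, QCohLib.map_map])
    refine ⟨g, fun i => hres i W ?_, fun g' hg' => uniq W _ _ fun i => (hg' i).trans ?_⟩
    · exact (((QCohLib.app_map (lam' i) _ g).symm.trans (congrArg _ (hg i))).trans (hgl i)).trans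
        (QCohLib.app_map (β i) _ s)
    · refine hres i W ?_
      exact ((((QCohLib.app_map (lam' i) _ g).symm.trans (congrArg _ (hg i))).trans (hgl i)).trans
        (QCohLib.app_map (β i) _ s)).symm
  choose φ hφ hφu using ex
  let pre : F.val.presheaf ⟶ G.val.presheaf :=
    { app := fun W => AddCommGrpCat.ofHom
        { toFun := φ W.unop
          map_zero' := (hφu _ 0 0 fun i => (map_zero _).trans (map_zero _).symm).symm
          map_add' := fun a b => (hφu _ (a + b) _ fun i => ((map_add ((lam' i).app W.unop).hom _ _).trans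
            (congrArg₂ (· + ·) (hφ _ a i) (hφ _ b i))).trans (map_add ((β i).app W.unop).hom a b).symm).symm }
      naturality := by
        rintro ⟨W⟩ ⟨W'⟩ i
        ext s
        refine (hφu W' _ (G.presheaf.map i (φ W s)) fun j => ?_).symm
        exact ((QCohLib.app_map (lam' j) i.unop.le _).trans (congrArg _ (hφ W s j))).trans
          (QCohLib.app_map (β j) i.unop.le s).symm }
  let Φ : F ⟶ G := ⟨PresheafOfModules.homMk pre fun W r m =>
    (hφu W.unop (r • m) _ fun i => ((Scheme.Modules.Hom.app_smul (lam' i) r (φ W.unop m)).trans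
      (congrArg (fun z : Γ(T i, W.unop) => (show Γ(X, W.unop) from r) • z) (hφ W.unop m i))).trans (Scheme.Modules.Hom.app_smul (β i) r m).symm).symm⟩
  refine ⟨Φ, fun i => Scheme.Modules.hom_ext _ _ fun W => ?_, fun Ψ hΨ => Scheme.Modules.hom_ext _ _ fun W => ?_⟩
  · ext s
    exact hφ W s i
  · ext s
    exact hφu W s _ fun i => congrArg (fun f : F ⟶ T i => f.app W s) (hΨ i)

/-- Restriction between equal opens is injective. -/
theorem map_injective_of_eq (M : X.Modules) {a b : X.Opens} (h : a = b) (i : a ⟶ b) :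
    Function.Injective (M.presheaf.map i.op) := by
  subst h
  rw [show i.op = 𝟙 (op a) from Subsingleton.elim _ _, CategoryTheory.Functor.map_id]
  exact fun _ _ h => h

end general

section relProj

variable {Y P : Scheme.{u}} {𝒮 : RelProj.QCGrAlg Y} {p : P ⟶ Y}
  {chart : ∀ (U : Y.Opens) (hU : IsAffineOpen U), (((p ⁻¹ᵁ U : P.Opens) : Scheme.{u}) ≅ Proj (𝒮.deg U hU))}

/-- The map `lam U` of an `IsRelTilde` datum, with an arbitrary target. -/
theorem existsUnique_relHom
    (T : ∀ (U : Y.Opens) (hU : IsAffineOpen U), (Proj (𝒮.deg U hU)).Modules) {F G : P.Modules}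
    (lam' : ∀ (U : Y.Opens) (hU : IsAffineOpen U),
      G ⟶ (Scheme.Modules.pushforward (RelProj.emb p chart U hU)).obj (T U hU))
    (β : ∀ (U : Y.Opens) (hU : IsAffineOpen U),
      F ⟶ (Scheme.Modules.pushforward (RelProj.emb p chart U hU)).obj (T U hU))
    (hbij : ∀ (U : Y.Opens) (hU : IsAffineOpen U) (W : P.Opens), W ≤ p ⁻¹ᵁ U →
      Function.Bijective ((lam' U hU).app W))
    (hcompat : ∀ (U : Y.Opens) (hU : IsAffineOpen U) (r : Γ(Y, U)) (W : P.Opens) (s : Γ(F, W)) (g : Γ(G, W)),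
      (lam' U hU).app W g = (β U hU).app W s →
        (lam' (Y.basicOpen r) (hU.basicOpen r)).app W g = (β (Y.basicOpen r) (hU.basicOpen r)).app W s) :
    ∃! φ : F ⟶ G, ∀ (U : Y.Opens) (hU : IsAffineOpen U), φ ≫ lam' U hU = β U hU := by
  have h := existsUnique_hom_of_local (fun U : Y.affineOpens => p ⁻¹ᵁ U.1)
    (T := fun U => (Scheme.Modules.pushforward (RelProj.emb p chart U.1 U.2)).obj (T U.1 U.2))
    (fun U => lam' U.1 U.2) (fun U => β U.1 U.2) ?_ (fun U => hbij U.1 U.2) ?_ ?_
  · obtain ⟨φ, h1, h2⟩ := h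
    exact ⟨φ, fun U hU => h1 ⟨U, hU⟩, fun ψ hψ => h2 ψ fun U => hψ U.1 U.2⟩
  · intro x
    obtain ⟨U, hU, hxU, -⟩ := exists_isAffineOpen_mem_and_subset (X := Y) (x := p x) (U := ⊤) trivial
    exact ⟨⟨U, hU⟩, hxU⟩
  · intro U W
    have e : RelProj.emb p chart U.1 U.2 ⁻¹ᵁ (W ⊓ p ⁻¹ᵁ U.1) = RelProj.emb p chart U.1 U.2 ⁻¹ᵁ W := by
      refine le_antisymm (fun z hz => hz.1) fun z hz => ⟨hz, ?_⟩
      exact ((chart U.1 U.2).inv z).2
    exact map_injective_of_eq (T U.1 U.2) e _
  · intro i j x hxi hxj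
    obtain ⟨f, g, hfg, hx⟩ := exists_basicOpen_le_affine_inter i.2 j.2 (p x) ⟨hxi, hxj⟩
    refine ⟨⟨Y.basicOpen f, i.2.basicOpen f⟩, hx, fun W _ s g' => ⟨hcompat i.1 i.2 f W s g', fun h => ?_⟩⟩
    have hh := hcompat j.1 j.2 g W s g' h
    have key : ∀ (V : Y.Opens) (hV : IsAffineOpen V), V = Y.basicOpen g →
        (lam' V hV).app W g' = (β V hV).app W s := by
      rintro V hV rfl
      exact hh
    exact key _ _ hfg

theorem comap_emb_mem (hP : RelProj.IsRelProj 𝒮 p chart) (U : Y.Opens) (hU : IsAffineOpen U) (r : Γ(Y, U))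
    {W : P.Opens} (y : ProjectiveSpectrum (𝒮.deg (Y.basicOpen r) (hU.basicOpen r)))
    (hy : (RelProj.emb p chart (Y.basicOpen r) (hU.basicOpen r)).base y ∈ W) :
    (RelProj.emb p chart U hU).base (ProjectiveSpectrum.comap
      (𝒮.res hU (hU.basicOpen r) (Y.basicOpen_le r)) (𝒮.irrelevant_le_map U hU r) y) ∈ W := by
  have e := RelProj.map_res_emb hP U hU r
  rw [← e] at hy
  exact hy

end relProj

end Groth.Agent.GrModFrac
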