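import Groth.Agent.GrModFrac.Twist
import Groth.Agent.ProjTwist.LiftHom

/-!
# Products of twisting sheaves on a relative Proj
-/

set_option autoImplicit false
universe u
open CategoryTheory CategoryTheory.Limits AlgebraicGeometry Opposite TopologicalSpace

namespace Groth.Agent.GrModFrac

set_option synthInstance.maxHeartbeats 400000
set_option maxHeartbeats 1600000

section general

/-- A section of `G` is glued from compatible local readings. -/
theorem existsUnique_section_of_local {X : Scheme.{u}} {G : X.Modules} {ι : Type*} (O : ι → X.Opens)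
    {T : ι → X.Modules} (lam' : ∀ i, G ⟶ T i) (hcov : ∀ x : X, ∃ i, x ∈ O i)
    (hbij : ∀ i (W : X.Opens), W ≤ O i → Function.Bijective ((lam' i).app W))
    (hres : ∀ i (W : X.Opens),
      Function.Injective ((T i).presheaf.map (homOfLE (inf_le_left : W ⊓ O i ≤ W)).op))
    (W : X.Opens) (z : ∀ i, Γ(T i, W))
    (hglue : ∀ i j (x : X), x ∈ O i → x ∈ O j → ∃ k, x ∈ O k ∧
      ∀ (W' : X.Opens) (h : W' ≤ W), W' ≤ O k → ∀ g : Γ(G, W'),
        ((lam' i).app W' g = (T i).presheaf.map (homOfLE h).op (z i) →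
            (lam' k).app W' g = (T k).presheaf.map (homOfLE h).op (z k)) ∧
          ((lam' j).app W' g = (T j).presheaf.map (homOfLE h).op (z j) →
            (lam' k).app W' g = (T k).presheaf.map (homOfLE h).op (z k))) :
    ∃! g : Γ(G, W), ∀ i, (lam' i).app W g = z i := by
  have uniq : ∀ g g' : Γ(G, W), (∀ i, (lam' i).app W g = (lam' i).app W g') → g = g' := by
    intro g g' h
    refine TopCat.Sheaf.eq_of_locally_eq' ⟨G.presheaf, G.isSheaf⟩ (fun i => W ⊓ O i) W
      (fun i => homOfLE inf_le_left)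
      (fun x hx => Opens.mem_iSup.mpr ((hcov x).imp fun i hi => ⟨hx, hi⟩)) _ _ fun i => ?_
    refine (hbij i _ inf_le_right).1 ((QCohLib.app_map (lam' i) inf_le_left g).trans ?_)
    exact ((congrArg _ (h i))).trans (QCohLib.app_map (lam' i) inf_le_left g').symm
  choose gl hgl using fun i => (hbij i (W ⊓ O i) inf_le_right).2
    ((T i).presheaf.map (homOfLE (inf_le_left : W ⊓ O i ≤ W)).op (z i))
  obtain ⟨g, hg, -⟩ := TopCat.Sheaf.existsUnique_gluing' ⟨G.presheaf, G.isSheaf⟩ (fun i => W ⊓ O i) W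
    (fun i => homOfLE inf_le_left)
    (fun x hx => Opens.mem_iSup.mpr ((hcov x).imp fun i hi => ⟨hx, hi⟩)) gl (by
      intro i j
      let V := (W ⊓ O i) ⊓ (W ⊓ O j)
      choose k hk using fun x : V => hglue i j x.1 x.2.1.2 x.2.2.2
      refine TopCat.Sheaf.eq_of_locally_eq' ⟨G.presheaf, G.isSheaf⟩ (fun x : V => V ⊓ O (k x)) V
        (fun x => homOfLE inf_le_left)
        (fun x hx => Opens.mem_iSup.mpr ⟨⟨x, hx⟩, hx, (hk ⟨x, hx⟩).1⟩) _ _ fun x => ?_
      refine (QCohLib.map_map G inf_le_left inf_le_left (gl i)).trans ?_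
      refine Eq.trans ?_ (QCohLib.map_map G inf_le_left inf_le_right (gl j)).symm
      apply (hbij (k x) _ inf_le_right).1
      have hV : V ⊓ O (k x) ≤ W := inf_le_left.trans (inf_le_left.trans inf_le_left)
      rw [((hk x).2 _ hV inf_le_right _).1 ?_, ((hk x).2 _ hV inf_le_right _).2 ?_]
      · rw [QCohLib.app_map, hgl, QCohLib.map_map]
      · rw [QCohLib.app_map, hgl, QCohLib.map_map])
  have hg' : ∀ i, (lam' i).app W g = z i := fun i =>
    hres i W (((QCohLib.app_map (lam' i) _ g).symm.trans (congrArg _ (hg i))).trans (hgl i))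
  exact ⟨g, hg', fun g' h => uniq _ _ fun i => (h i).trans (hg' i).symm⟩

end general

section ring

variable {A σ : Type u} [CommRing A] [SetLike σ A] [AddSubgroupClass σ A] {𝒜 : ℕ → σ} [GradedRing 𝒜]

theorem twistAt_mul_mem {n m r : ℤ} (h : n + m = r) {x : ProjectiveSpectrum 𝒜} {p q : GrTwist.Loc 𝒜 x}
    (hp : p ∈ GrTwist.twistAt 𝒜 n x) (hq : q ∈ GrTwist.twistAt 𝒜 m x) : p * q ∈ GrTwist.twistAt 𝒜 r x := by
  induction hp using Submodule.span_induction with
  | mem p hp =>
    obtain ⟨i, j, a, s, hs, hdeg, rfl⟩ := hp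
    induction hq using Submodule.span_induction with
    | mem q hq =>
      obtain ⟨i', j', b, t, ht, hdeg', rfl⟩ := hq
      rw [Localization.mk_mul]
      exact Submodule.subset_span ⟨i + i', j + j', ⟨_, SetLike.mul_mem_graded a.2 b.2⟩,
        ⟨_, SetLike.mul_mem_graded s.2 t.2⟩, fun hc => (x.isPrime.mem_or_mem hc).elim hs ht, by omega, rfl⟩
    | zero => rw [mul_zero]; exact zero_mem _
    | add q q' _ _ hq hq' => rw [mul_add]; exact add_mem hq hq'
    | smul c q _ hq => rw [mul_smul_comm]; exact Submodule.smul_mem _ c hq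
  | zero => rw [zero_mul]; exact zero_mem _
  | add p p' _ _ hp hp' => rw [add_mul]; exact add_mem hp hp'
  | smul c p _ hp => rw [smul_mul_assoc]; exact Submodule.smul_mem _ c hp

/-- Product of sections of `O(n)` and `O(m)`. -/
noncomputable def twistMul {n m r : ℤ} (h : n + m = r) {U : (Opens (ProjectiveSpectrum.top 𝒜))ᵒᵖ}
    (p : GrTwist.sectN (𝒜 := 𝒜) n U) (q : GrTwist.sectN (𝒜 := 𝒜) m U) : GrTwist.sectN (𝒜 := 𝒜) r U :=
  ⟨fun x => ⟨(p.1 x).1 * (q.1 x).1, twistAt_mul_mem h (p.1 x).2 (q.1 x).2⟩, fun x => by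
    obtain ⟨Vp, mp, ip, i, j, ⟨a, a_mem⟩, ⟨s, s_mem⟩, ninp, cp, wp⟩ := p.2 x
    obtain ⟨Vq, mq, iq, i', j', ⟨b, b_mem⟩, ⟨t, t_mem⟩, ninq, cq, wq⟩ := q.2 x
    replace cp : (i : ℤ) = j + n ∨ a = 0 := cp
    replace cq : (i' : ℤ) = j' + m ∨ b = 0 := cq
    have nin : ∀ y : (Vp ⊓ Vq : Opens _), s * t ∉ y.1.asHomogeneousIdeal := fun y hc =>
      (y.1.isPrime.mem_or_mem hc).elim (ninp ⟨y.1, y.2.1⟩) (ninq ⟨y.1, y.2.2⟩)
    refine ⟨Vp ⊓ Vq, ⟨mp, mq⟩, Opens.infLELeft _ _ ≫ ip, i + i', j + j',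
      ⟨a * b, SetLike.mul_mem_graded a_mem b_mem⟩, ⟨s * t, SetLike.mul_mem_graded s_mem t_mem⟩, nin, ?_,
      fun y => ?_⟩
    · rcases cp with hp | hp
      · rcases cq with hq | hq
        · exact Or.inl (by push_cast; omega)
        · exact Or.inr (show a * b = 0 by rw [hq, mul_zero])
      · exact Or.inr (show a * b = 0 by rw [hp, zero_mul])
    · have e1 := wp ⟨y.1, y.2.1⟩
      have e2 := wq ⟨y.1, y.2.2⟩
      dsimp only at e1 e2 ⊢
      erw [e1, e2, Localization.mk_mul]
      rfl⟩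

theorem twistMul_val {n m r : ℤ} (h : n + m = r) {U : (Opens (ProjectiveSpectrum.top 𝒜))ᵒᵖ}
    (p : GrTwist.sectN (𝒜 := 𝒜) n U) (q : GrTwist.sectN (𝒜 := 𝒜) m U) (x : U.unop) :
    ((twistMul h p q).1 x).1 = (p.1 x).1 * (q.1 x).1 := rfl

/-- Multiplication by a nowhere vanishing fraction of degree `m` is bijective. -/
theorem bijective_twistMul_frac {n m r : ℤ} (hr : n + m = r) {W : Opens (ProjectiveSpectrum.top 𝒜)}
    {i j : ℕ} (g : 𝒜 i) (h : 𝒜 j) (hg : ∀ x : W, (g : A) ∉ x.1.asHomogeneousIdeal)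
    (hh : ∀ x : W, (h : A) ∉ x.1.asHomogeneousIdeal) (hdeg : (i : ℤ) = j + m) :
    Function.Bijective fun p : GrTwist.sectN (𝒜 := 𝒜) n (op W) => twistMul hr p (twistFrac W g h hh hdeg) := by
  refine Function.bijective_iff_has_inverse.mpr
    ⟨fun t => twistMul (show r + -m = n by omega) t (twistFrac W h g hg (by omega)),
      fun p => twistSect_ext fun x => ?_, fun t => twistSect_ext fun x => ?_⟩
  · show ((p.1 x).1 * Localization.mk (g : A) ⟨(h : A), hh x⟩) * Localization.mk (h : A) ⟨(g : A), hg x⟩ = (p.1 x).1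
    rw [mul_assoc, mk_mul_mk_cancel (hg x) (hh x), mul_one]
  · show ((t.1 x).1 * Localization.mk (h : A) ⟨(g : A), hg x⟩) * Localization.mk (g : A) ⟨(h : A), hh x⟩ = (t.1 x).1
    rw [mul_assoc, mk_mul_mk_cancel (hh x) (hg x), mul_one]

end ring

section relProj

variable {Y P : Scheme.{u}} {𝒮 : RelProj.QCGrAlg Y} {p : P ⟶ Y}
  {chart : ∀ (U : Y.Opens) (hU : IsAffineOpen U), (((p ⁻¹ᵁ U : P.Opens) : Scheme.{u}) ≅ Proj (𝒮.deg U hU))}
variable {m n r : ℤ} {L L' L'' : P.Modules}
  {lam : ∀ (U : Y.Opens) (hU : IsAffineOpen U),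
    L ⟶ (Scheme.Modules.pushforward (RelProj.emb p chart U hU)).obj (GrTwist.twist (𝒮.deg U hU) m)}
  {lam' : ∀ (U : Y.Opens) (hU : IsAffineOpen U),
    L' ⟶ (Scheme.Modules.pushforward (RelProj.emb p chart U hU)).obj (GrTwist.twist (𝒮.deg U hU) n)}
  {lam'' : ∀ (U : Y.Opens) (hU : IsAffineOpen U),
    L'' ⟶ (Scheme.Modules.pushforward (RelProj.emb p chart U hU)).obj (GrTwist.twist (𝒮.deg U hU) r)}

/-- The product of a section of `O(m)` and a section of `O(n)`. -/
theorem existsUnique_relMul (hP : RelProj.IsRelProj 𝒮 p chart) (hr : m + n = r)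
    (hL : RelProj.IsRelTwist 𝒮 p chart m L lam) (hL' : RelProj.IsRelTwist 𝒮 p chart n L' lam')
    (hL'' : RelProj.IsRelTwist 𝒮 p chart r L'' lam'') (W : P.Opens) (a : Γ(L, W)) (b : Γ(L', W)) :
    ∃! g : Γ(L'', W), ∀ (U : Y.Opens) (hU : IsAffineOpen U),
      (lam'' U hU).app W g = twistMul hr ((lam U hU).app W a) ((lam' U hU).app W b) := by
  have h := existsUnique_section_of_local (fun U : Y.affineOpens => p ⁻¹ᵁ U.1)
    (T := fun U => (Scheme.Modules.pushforward (RelProj.emb p chart U.1 U.2)).obj (GrTwist.twist (𝒮.deg U.1 U.2) r))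
    (fun U => lam'' U.1 U.2) ?_ (fun U => hL''.bijective U.1 U.2) ?_ W
    (fun U => twistMul hr ((lam U.1 U.2).app W a) ((lam' U.1 U.2).app W b)) ?_
  · obtain ⟨g, h1, h2⟩ := h
    exact ⟨g, fun U hU => h1 ⟨U, hU⟩, fun g' hg' => h2 g' fun U => hg' U.1 U.2⟩
  · intro x
    obtain ⟨U, hU, hxU, -⟩ := exists_isAffineOpen_mem_and_subset (X := Y) (x := p x) (U := ⊤) trivial
    exact ⟨⟨U, hU⟩, hxU⟩
  · intro U W
    refine map_injective_of_eq (GrTwist.twist (𝒮.deg U.1 U.2) r) ?_ _
    exact le_antisymm (fun z hz => hz.1) fun z hz => ⟨hz, ((chart U.1 U.2).inv z).2⟩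
  · intro i j x hxi hxj
    obtain ⟨f, g, hfg, hx⟩ := exists_basicOpen_le_affine_inter i.2 j.2 (p x) ⟨hxi, hxj⟩
    have step : ∀ (U : Y.Opens) (hU : IsAffineOpen U) (c : Γ(Y, U)) (W' : P.Opens) (h : W' ≤ W) (g : Γ(L'', W')),
        (lam'' U hU).app W' g = ((Scheme.Modules.pushforward (RelProj.emb p chart U hU)).obj
            (GrTwist.twist (𝒮.deg U hU) r)).presheaf.map (homOfLE h).op
            (twistMul hr ((lam U hU).app W a) ((lam' U hU).app W b)) →
          (lam'' (Y.basicOpen c) (hU.basicOpen c)).app W' g =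
            ((Scheme.Modules.pushforward (RelProj.emb p chart (Y.basicOpen c) (hU.basicOpen c))).obj
              (GrTwist.twist (𝒮.deg (Y.basicOpen c) (hU.basicOpen c)) r)).presheaf.map (homOfLE h).op
              (twistMul hr ((lam (Y.basicOpen c) (hU.basicOpen c)).app W a)
                ((lam' (Y.basicOpen c) (hU.basicOpen c)).app W b)) := by
      intro U hU c W' h g hg
      refine twistSect_ext fun y => ?_
      have hy' := comap_emb_mem hP U hU c y.1 y.2
      refine (hL''.compat U hU c W' g y.1 y.2 hy').trans ?_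
      refine (congrArg (fun z => GrTwist.locMap (𝒮.res hU (hU.basicOpen c) (Y.basicOpen_le c))
        (𝒮.irrelevant_le_map U hU c) y.1 (GrTwist.val (V := RelProj.emb p chart U hU ⁻¹ᵁ W') z ⟨_, hy'⟩)) hg).trans ?_
      refine (map_mul (GrTwist.locMap (𝒮.res hU (hU.basicOpen c) (Y.basicOpen_le c))
        (𝒮.irrelevant_le_map U hU c) y.1) _ _).trans ?_
      exact congrArg₂ (· * ·) (hL.compat U hU c W a y.1 (h y.2) (h hy')).symm
        (hL'.compat U hU c W b y.1 (h y.2) (h hy')).symm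
    refine ⟨⟨Y.basicOpen f, i.2.basicOpen f⟩, hx, fun W' h _ g' => ⟨step i.1 i.2 f W' h g', fun hh => ?_⟩⟩
    have h2 := step j.1 j.2 g W' h g' hh
    have key : ∀ (V : Y.Opens) (hV : IsAffineOpen V), V = Y.basicOpen g →
        (lam'' V hV).app W' g' = ((Scheme.Modules.pushforward (RelProj.emb p chart V hV)).obj
            (GrTwist.twist (𝒮.deg V hV) r)).presheaf.map (homOfLE h).op
            (twistMul hr ((lam V hV).app W a) ((lam' V hV).app W b)) := by
      rintro V hV rfl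
      exact h2
    exact key _ _ hfg

/-- Multiplication `O(m) ⊗ O(n) → O(m + n)` on sections, as a natural bilinear family. -/
theorem exists_relMulHom (hP : RelProj.IsRelProj 𝒮 p chart) (hr : m + n = r)
    (hL : RelProj.IsRelTwist 𝒮 p chart m L lam) (hL' : RelProj.IsRelTwist 𝒮 p chart n L' lam')
    (hL'' : RelProj.IsRelTwist 𝒮 p chart r L'' lam'') :
    ∃ φ : CohB1.tensorPre L L' ⟶ CohB1.toPMod L'', ∀ (U : Y.Opens) (hU : IsAffineOpen U) (W : P.Opens)
      (a : (CohB1.toPMod L).obj (op W)) (b : (CohB1.toPMod L').obj (op W)),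
      (lam'' U hU).app W (φ.app (op W) (a ⊗ₜ[P.sheaf.obj.obj (op W)] b)) =
        twistMul hr ((lam U hU).app W a) ((lam' U hU).app W b) := by
  choose μ hμ hμu using existsUnique_relMul hP hr hL hL' hL''
  refine ⟨ProjTwist.liftHom (M := CohB1.toPMod L) (N := CohB1.toPMod L') (T := CohB1.toPMod L'')
    (fun W a b => μ W.unop a b) ?_ ?_ ?_ ?_ ?_, fun U hU W a b => hμ W a b U hU⟩
  · intro W a a' b
    refine (hμu W.unop _ _ _ fun U hU => twistSect_ext fun y => ?_).symm
    refine (congrArg (fun z => GrTwist.val z y) ((map_add ((lam'' U hU).app W.unop).hom _ _).trans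
      (congrArg₂ (· + ·) (hμ W.unop a b U hU) (hμ W.unop a' b U hU)))).trans ?_
    refine Eq.trans ?_ (congrArg (· * _) (congrArg (fun z => GrTwist.val z y)
      (map_add ((lam U hU).app W.unop).hom a a'))).symm
    exact (add_mul (R := GrTwist.Loc (𝒮.deg U hU) y.1) _ _ _).symm
  · intro W c a b
    refine (hμu W.unop _ _ _ fun U hU => twistSect_ext fun y => ?_).symm
    refine (congrArg (fun z => GrTwist.val z y) ((Scheme.Modules.Hom.app_smul (lam'' U hU) c _).trans
      (congrArg (fun z => (show Γ(P, W.unop) from c) • z) (hμ W.unop a b U hU)))).trans ?_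
    refine (twist_smul_val _ _ y).trans ?_
    refine Eq.trans ?_ (congrArg (· * _) ((congrArg (fun z => GrTwist.val z y)
      (Scheme.Modules.Hom.app_smul (lam U hU) c a)).trans (twist_smul_val _ _ y))).symm
    exact (mul_assoc _ _ _).symm
  · intro W a b b'
    refine (hμu W.unop _ _ _ fun U hU => twistSect_ext fun y => ?_).symm
    refine (congrArg (fun z => GrTwist.val z y) ((map_add ((lam'' U hU).app W.unop).hom _ _).trans
      (congrArg₂ (· + ·) (hμ W.unop a b U hU) (hμ W.unop a b' U hU)))).trans ?_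
    refine Eq.trans ?_ (congrArg (_ * ·) (congrArg (fun z => GrTwist.val z y)
      (map_add ((lam' U hU).app W.unop).hom b b'))).symm
    exact (mul_add (R := GrTwist.Loc (𝒮.deg U hU) y.1) _ _ _).symm
  · intro W c a b
    refine (hμu W.unop _ _ _ fun U hU => twistSect_ext fun y => ?_).symm
    refine (congrArg (fun z => GrTwist.val z y) ((Scheme.Modules.Hom.app_smul (lam'' U hU) c _).trans
      (congrArg (fun z => (show Γ(P, W.unop) from c) • z) (hμ W.unop a b U hU)))).trans ?_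
    refine (twist_smul_val _ _ y).trans ?_
    refine Eq.trans ?_ (congrArg (_ * ·) ((congrArg (fun z => GrTwist.val z y)
      (Scheme.Modules.Hom.app_smul (lam' U hU) c b)).trans (twist_smul_val _ _ y))).symm
    exact mul_left_comm _ _ _
  · intro W W' f a b
    refine (hμu W'.unop _ _ _ fun U hU => twistSect_ext fun y => ?_).symm
    have h1 := QCohLib.app_map (lam'' U hU) f.unop.le (μ W.unop a b)
    have h2 := QCohLib.app_map (lam U hU) f.unop.le a
    have h3 := QCohLib.app_map (lam' U hU) f.unop.le b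
    refine (congrArg (fun z => GrTwist.val z y) (h1.trans (congrArg _ (hμ W.unop a b U hU)))).trans ?_
    exact (congrArg₂ (fun z z' => GrTwist.val z y * GrTwist.val z' y) h2 h3).symm

/-- Near a point where the chart has a unit fraction, a generator `b₀` of `O(n)` with bijective pairing. -/
theorem exists_relMul_unit (hr : m + n = r) (hL : RelProj.IsRelTwist 𝒮 p chart m L lam)
    (hL' : RelProj.IsRelTwist 𝒮 p chart n L' lam') (hL'' : RelProj.IsRelTwist 𝒮 p chart r L'' lam'')
    (φ : CohB1.tensorPre L L' ⟶ CohB1.toPMod L'')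
    (hφ : ∀ (U : Y.Opens) (hU : IsAffineOpen U) (W : P.Opens) (a : (CohB1.toPMod L).obj (op W))
      (b : (CohB1.toPMod L').obj (op W)),
      (lam'' U hU).app W (φ.app (op W) (a ⊗ₜ[P.sheaf.obj.obj (op W)] b)) =
        twistMul hr ((lam U hU).app W a) ((lam' U hU).app W b))
    (U : Y.Opens) (hU : IsAffineOpen U) (V : P.Opens) (hV : V ≤ p ⁻¹ᵁ U) {i j : ℕ} (g : 𝒮.deg U hU i)
    (h : 𝒮.deg U hU j) (hdeg : (i : ℤ) = j + n)
    (hg : ∀ y : (RelProj.emb p chart U hU ⁻¹ᵁ V : (Proj (𝒮.deg U hU)).Opens),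
      (g : 𝒮.presheaf.obj (op U)) ∉ (show ProjectiveSpectrum (𝒮.deg U hU) from y.1).asHomogeneousIdeal)
    (hh : ∀ y : (RelProj.emb p chart U hU ⁻¹ᵁ V : (Proj (𝒮.deg U hU)).Opens),
      (h : 𝒮.presheaf.obj (op U)) ∉ (show ProjectiveSpectrum (𝒮.deg U hU) from y.1).asHomogeneousIdeal) :
    ∃ b₀ : (CohB1.toPMod L').obj (op V),
      (Function.Bijective fun a : (CohB1.toPMod L).obj (op V) =>
        φ.app (op V) (a ⊗ₜ[P.sheaf.obj.obj (op V)] b₀)) ∧
      ∀ b : (CohB1.toPMod L').obj (op V), ∃ c : P.sheaf.obj.obj (op V), c • b₀ = b := by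
  obtain ⟨b₀, hb₀⟩ := (hL'.bijective U hU V hV).2
    (twistFrac (RelProj.emb p chart U hU ⁻¹ᵁ V) g h hh hdeg)
  refine ⟨b₀, ?_, ?_⟩
  · refine (Function.Bijective.of_comp_iff' (hL''.bijective U hU V hV) _).mp ?_
    refine Eq.subst (motive := Function.Bijective) ?_
      ((bijective_twistMul_frac hr g h hg hh hdeg).comp (hL.bijective U hU V hV))
    exact funext fun a => ((hφ U hU V a b₀).trans (congrArg (fun z => twistMul hr ((lam U hU).app V a) z) hb₀)).symm
  · exact (bijective_smul_relTwist hL' U hU hV b₀ g h hdeg hg hh fun y =>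
      congrArg (fun z => GrTwist.val z y) hb₀).2

/-- The structure sheaf, with the tautological readings, is `O(0)`. -/
theorem exists_structure_relTwist (hP : RelProj.IsRelProj 𝒮 p chart) :
    ∃ lam₀ : ∀ (U : Y.Opens) (hU : IsAffineOpen U), Coh.structureModule P ⟶
        (Scheme.Modules.pushforward (RelProj.emb p chart U hU)).obj (GrTwist.twist (𝒮.deg U hU) 0),
      RelProj.IsRelTwist 𝒮 p chart 0 (Coh.structureModule P) lam₀ := by
  let one : ∀ (U : Y.Opens) (hU : IsAffineOpen U) (W : P.Opens),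
      Γ((Scheme.Modules.pushforward (RelProj.emb p chart U hU)).obj (GrTwist.twist (𝒮.deg U hU) 0), W) :=
    fun U hU W => twistFrac (RelProj.emb p chart U hU ⁻¹ᵁ W)
      (⟨1, SetLike.GradedOne.one_mem⟩ : 𝒮.deg U hU 0) (⟨1, SetLike.GradedOne.one_mem⟩ : 𝒮.deg U hU 0)
      (fun z => one_notMem _ z.1) (by simp)
  let lam₀ : ∀ (U : Y.Opens) (hU : IsAffineOpen U), Coh.structureModule P ⟶
      (Scheme.Modules.pushforward (RelProj.emb p chart U hU)).obj (GrTwist.twist (𝒮.deg U hU) 0) := fun U hU =>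
    (SheafOfModules.unitHomEquiv _).symm (PresheafOfModules.sectionsMk
      (M := ((Scheme.Modules.pushforward (RelProj.emb p chart U hU)).obj (GrTwist.twist (𝒮.deg U hU) 0)).val)
      (fun W => one U hU W.unop) (fun {V W} f => rfl))
  have happ : ∀ (U : Y.Opens) (hU : IsAffineOpen U) (W : P.Opens) (c : Γ(P, W)),
      (lam₀ U hU).app W (show Γ(Coh.structureModule P, W) from c) =
        ((RelProj.emb p chart U hU).app W c) • (show Γ(GrTwist.twist (𝒮.deg U hU) 0, RelProj.emb p chart U hU ⁻¹ᵁ W)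
          from one U hU W) := fun U hU W c => rfl
  refine ⟨lam₀, ⟨fun U hU W hW => ?_, fun U hU c W s y hy hy' => ?_⟩⟩
  · have : IsIso ((RelProj.emb p chart U hU).app W) :=
      (RelProj.emb p chart U hU).isIso_app W (le_opensRange_emb U hU hW)
    exact Eq.subst (motive := Function.Bijective) (funext fun t => (happ U hU W t).symm)
      ((bijective_smul_twistFrac (W := RelProj.emb p chart U hU ⁻¹ᵁ W)
        (⟨1, SetLike.GradedOne.one_mem⟩ : 𝒮.deg U hU 0) (⟨1, SetLike.GradedOne.one_mem⟩ : 𝒮.deg U hU 0)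
        (fun z => one_notMem _ z.1) (fun z => one_notMem _ z.1) (by simp)).comp
          (ConcreteCategory.bijective_of_isIso ((RelProj.emb p chart U hU).app W)))
  · have e := RelProj.map_res_emb hP U hU c
    have h1 : ∀ (f : Proj (𝒮.deg (Y.basicOpen c) (hU.basicOpen c)) ⟶ P),
        Proj.map (𝒮.res hU (hU.basicOpen c) (Y.basicOpen_le c)) (𝒮.irrelevant_le_map U hU c) ≫
          RelProj.emb p chart U hU = f → ∀ (hy₂ : f y ∈ W),
        ((show GrTwist.O (𝒜 := 𝒮.deg (Y.basicOpen c) (hU.basicOpen c)) (op (f ⁻¹ᵁ W)) from f.app W s).1 ⟨y, hy₂⟩).val =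
          GrTwist.locMap (𝒮.res hU (hU.basicOpen c) (Y.basicOpen_le c)) (𝒮.irrelevant_le_map U hU c) y
            ((show GrTwist.O (𝒜 := 𝒮.deg U hU) (op (RelProj.emb p chart U hU ⁻¹ᵁ W)) from
              (RelProj.emb p chart U hU).app W s).1 ⟨_, hy'⟩).val := by
      rintro f rfl hy₂
      exact HomogeneousLocalization.val_localRingHom _
    have hval : ∀ (U : Y.Opens) (hU : IsAffineOpen U) (z : (RelProj.emb p chart U hU ⁻¹ᵁ W : (Proj (𝒮.deg U hU)).Opens)),
        GrTwist.val ((lam₀ U hU).app W s) z =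
          ((show GrTwist.O (𝒜 := 𝒮.deg U hU) (op (RelProj.emb p chart U hU ⁻¹ᵁ W)) from
            (RelProj.emb p chart U hU).app W s).1 z).val := fun U hU z => by
      refine (congrArg (fun q => GrTwist.val q z) (happ U hU W s)).trans ?_
      refine (twist_smul_val _ _ _).trans ?_
      refine Eq.trans (congrArg (_ * ·) ?_) (mul_one _)
      exact Localization.mk_self (⟨1, one_notMem _ z.1⟩ :
        (show ProjectiveSpectrum (𝒮.deg U hU) from z.1).asHomogeneousIdeal.toIdeal.primeCompl)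
    rw [hval, hval]
    exact h1 _ e hy

end relProj

end Groth.Agent.GrModFrac
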