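import Groth.Agent.GrModFrac.Pair
import Groth.Prelude.Def_RelProj3

/-!
# Products of `M(n)~` and `O(m)` on a relative Proj
-/

set_option autoImplicit false
universe u
open CategoryTheory CategoryTheory.Limits AlgebraicGeometry Opposite TopologicalSpace

namespace Groth.Agent.GrModFrac

set_option synthInstance.maxHeartbeats 400000
set_option maxHeartbeats 1600000

section ring

variable {A σ : Type u} [CommRing A] [SetLike σ A] [AddSubgroupClass σ A] {𝒜 : ℕ → σ} [GradedRing 𝒜]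
variable {M τ : Type u} [AddCommGroup M] [Module A M] [SetLike τ M] [AddSubgroupClass τ M] {ℳ : ℕ → τ}
  [SetLike.GradedSMul 𝒜 ℳ]

theorem smul_mem_modAt {n m r : ℤ} (h : n + m = r) {x : ProjectiveSpectrum 𝒜} {p : GrTwist.Loc 𝒜 x}
    {q : GrMod.LocMod 𝒜 (M := M) x}
    (hq : q ∈ GrMod.tildeAt 𝒜 ℳ n x) (hp : p ∈ GrTwist.twistAt 𝒜 m x) : p • q ∈ GrMod.tildeAt 𝒜 ℳ r x := by
  induction hp using Submodule.span_induction with
  | mem p hp =>
    obtain ⟨i, j, a, s, hs, hdeg, rfl⟩ := hp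
    induction hq using Submodule.span_induction with
    | mem q hq =>
      obtain ⟨i', j', b, t, ht, hdeg', rfl⟩ := hq
      rw [LocalizedModule.mk_smul_mk]
      exact Submodule.subset_span ⟨i + i', j + j', ⟨_, SetLike.GradedSMul.smul_mem a.2 b.2⟩,
        ⟨_, SetLike.mul_mem_graded s.2 t.2⟩, fun hc => (x.isPrime.mem_or_mem hc).elim hs ht, by omega, rfl⟩
    | zero => rw [smul_zero]; exact zero_mem _
    | add q q' _ _ hq hq' => rw [smul_add]; exact add_mem hq hq'
    | smul c q _ hq =>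
      rw [GrMod.a0_smul_def, smul_comm]
      exact Submodule.smul_mem _ c hq
  | zero => rw [zero_smul]; exact zero_mem _
  | add p p' _ _ hp hp' => rw [add_smul]; exact add_mem hp hp'
  | smul c p _ hp =>
    rw [Algebra.smul_def, mul_smul]
    exact Submodule.smul_mem _ c hp

/-- Product of a section of `M(n)~` and a section of `O(m)`. -/
noncomputable def modMul {n m r : ℤ} (h : n + m = r) {U : (Opens (ProjectiveSpectrum.top 𝒜))ᵒᵖ}
    (q : GrMod.sect 𝒜 ℳ n U) (p : GrTwist.sectN (𝒜 := 𝒜) m U) : GrMod.sect 𝒜 ℳ r U :=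
  ⟨fun x => ⟨(p.1 x).1 • (q.1 x).1, smul_mem_modAt h (q.1 x).2 (p.1 x).2⟩, fun x => by
    obtain ⟨Vp, mp, ip, i, j, ⟨a, a_mem⟩, ⟨s, s_mem⟩, ninp, cp, wp⟩ := p.2 x
    obtain ⟨Vq, mq, iq, i', j', ⟨b, b_mem⟩, ⟨t, t_mem⟩, ninq, cq, wq⟩ := q.2 x
    replace cp : (i : ℤ) = j + m ∨ a = 0 := cp
    replace cq : (i' : ℤ) = j' + n ∨ b = 0 := cq
    have nin : ∀ y : (Vp ⊓ Vq : Opens _), s * t ∉ y.1.asHomogeneousIdeal := fun y hc =>
      (y.1.isPrime.mem_or_mem hc).elim (ninp ⟨y.1, y.2.1⟩) (ninq ⟨y.1, y.2.2⟩)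
    refine ⟨Vp ⊓ Vq, ⟨mp, mq⟩, Opens.infLELeft _ _ ≫ ip, i + i', j + j',
      ⟨a • b, SetLike.GradedSMul.smul_mem a_mem b_mem⟩, ⟨s * t, SetLike.mul_mem_graded s_mem t_mem⟩, nin, ?_,
      fun y => ?_⟩
    · rcases cp with hp | hp
      · rcases cq with hq | hq
        · exact Or.inl (by push_cast; omega)
        · exact Or.inr (show a • b = 0 by rw [hq, smul_zero])
      · exact Or.inr (show a • b = 0 by rw [hp, zero_smul])
    · have e1 := wp ⟨y.1, y.2.1⟩
      have e2 := wq ⟨y.1, y.2.2⟩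
      dsimp only at e1 e2 ⊢
      erw [e1, e2, LocalizedModule.mk_smul_mk]
      rfl⟩

/-- Multiplication by a nowhere vanishing fraction of degree `m` is bijective. -/
theorem bijective_modMul_frac {n m r : ℤ} (hr : n + m = r) {W : Opens (ProjectiveSpectrum.top 𝒜)}
    {i j : ℕ} (g : 𝒜 i) (h : 𝒜 j) (hg : ∀ x : W, (g : A) ∉ x.1.asHomogeneousIdeal)
    (hh : ∀ x : W, (h : A) ∉ x.1.asHomogeneousIdeal) (hdeg : (i : ℤ) = j + m) :
    Function.Bijective fun p : GrMod.sect 𝒜 ℳ n (op W) => modMul hr p (twistFrac W g h hh hdeg) := by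
  refine Function.bijective_iff_has_inverse.mpr
    ⟨fun t => modMul (show r + -m = n by omega) t (twistFrac W h g hg (by omega)),
      fun p => sect_ext' fun x => ?_, fun t => sect_ext' fun x => ?_⟩
  · show (Localization.mk (h : A) ⟨(g : A), hg x⟩ : GrTwist.Loc 𝒜 x.1) •
      (Localization.mk (g : A) ⟨(h : A), hh x⟩ : GrTwist.Loc 𝒜 x.1) • (p.1 x).1 = (p.1 x).1
    rw [smul_smul, mk_mul_mk_cancel (hh x) (hg x), one_smul]
  · show (Localization.mk (g : A) ⟨(h : A), hh x⟩ : GrTwist.Loc 𝒜 x.1) •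
      (Localization.mk (h : A) ⟨(g : A), hg x⟩ : GrTwist.Loc 𝒜 x.1) • (t.1 x).1 = (t.1 x).1
    rw [smul_smul, mk_mul_mk_cancel (hg x) (hh x), one_smul]

end ring

section relProj

variable {Y P : Scheme.{u}} {𝒮 : RelProj.QCGrAlg Y} {p : P ⟶ Y}
  {chart : ∀ (U : Y.Opens) (hU : IsAffineOpen U), (((p ⁻¹ᵁ U : P.Opens) : Scheme.{u}) ≅ Proj (𝒮.deg U hU))}
variable {ℳ : RelProj.GrModule 𝒮} {m n r : ℤ} {L L' L'' : P.Modules}
  {lam : ∀ (U : Y.Opens) (hU : IsAffineOpen U),
    L ⟶ (Scheme.Modules.pushforward (RelProj.emb p chart U hU)).obj (GrMod.tilde (𝒮.deg U hU) (ℳ.deg U hU) m)}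
  {lam' : ∀ (U : Y.Opens) (hU : IsAffineOpen U),
    L' ⟶ (Scheme.Modules.pushforward (RelProj.emb p chart U hU)).obj (GrTwist.twist (𝒮.deg U hU) n)}
  {lam'' : ∀ (U : Y.Opens) (hU : IsAffineOpen U),
    L'' ⟶ (Scheme.Modules.pushforward (RelProj.emb p chart U hU)).obj (GrMod.tilde (𝒮.deg U hU) (ℳ.deg U hU) r)}

/-- The product of a section of `O(m)` and a section of `O(n)`. -/
theorem existsUnique_relModMul (hP : RelProj.IsRelProj 𝒮 p chart) (hr : m + n = r)
    (hL : RelProj.IsRelTilde 𝒮 p chart ℳ m L lam) (hL' : RelProj.IsRelTwist 𝒮 p chart n L' lam')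
    (hL'' : RelProj.IsRelTilde 𝒮 p chart ℳ r L'' lam'') (W : P.Opens) (a : Γ(L, W)) (b : Γ(L', W)) :
    ∃! g : Γ(L'', W), ∀ (U : Y.Opens) (hU : IsAffineOpen U),
      (lam'' U hU).app W g = modMul hr ((lam U hU).app W a) ((lam' U hU).app W b) := by
  have h := existsUnique_section_of_local (fun U : Y.affineOpens => p ⁻¹ᵁ U.1)
    (T := fun U => (Scheme.Modules.pushforward (RelProj.emb p chart U.1 U.2)).obj (GrMod.tilde (𝒮.deg U.1 U.2) (ℳ.deg U.1 U.2) r))
    (fun U => lam'' U.1 U.2) ?_ (fun U => hL''.bijective U.1 U.2) ?_ W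
    (fun U => modMul hr ((lam U.1 U.2).app W a) ((lam' U.1 U.2).app W b)) ?_
  · obtain ⟨g, h1, h2⟩ := h
    exact ⟨g, fun U hU => h1 ⟨U, hU⟩, fun g' hg' => h2 g' fun U => hg' U.1 U.2⟩
  · intro x
    obtain ⟨U, hU, hxU, -⟩ := exists_isAffineOpen_mem_and_subset (X := Y) (x := p x) (U := ⊤) trivial
    exact ⟨⟨U, hU⟩, hxU⟩
  · intro U W
    refine map_injective_of_eq (GrMod.tilde (𝒮.deg U.1 U.2) (ℳ.deg U.1 U.2) r) ?_ _
    exact le_antisymm (fun z hz => hz.1) fun z hz => ⟨hz, ((chart U.1 U.2).inv z).2⟩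
  · intro i j x hxi hxj
    obtain ⟨f, g, hfg, hx⟩ := exists_basicOpen_le_affine_inter i.2 j.2 (p x) ⟨hxi, hxj⟩
    have step : ∀ (U : Y.Opens) (hU : IsAffineOpen U) (c : Γ(Y, U)) (W' : P.Opens) (h : W' ≤ W) (g : Γ(L'', W')),
        (lam'' U hU).app W' g = ((Scheme.Modules.pushforward (RelProj.emb p chart U hU)).obj
            (GrMod.tilde (𝒮.deg U hU) (ℳ.deg U hU) r)).presheaf.map (homOfLE h).op
            (modMul hr ((lam U hU).app W a) ((lam' U hU).app W b)) →
          (lam'' (Y.basicOpen c) (hU.basicOpen c)).app W' g =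
            ((Scheme.Modules.pushforward (RelProj.emb p chart (Y.basicOpen c) (hU.basicOpen c))).obj
              (GrMod.tilde (𝒮.deg (Y.basicOpen c) (hU.basicOpen c)) (ℳ.deg (Y.basicOpen c) (hU.basicOpen c)) r)).presheaf.map (homOfLE h).op
              (modMul hr ((lam (Y.basicOpen c) (hU.basicOpen c)).app W a)
                ((lam' (Y.basicOpen c) (hU.basicOpen c)).app W b)) := by
      intro U hU c W' h g hg
      refine sect_ext' fun y => ?_
      have hy' := comap_emb_mem hP U hU c y.1 y.2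
      refine (hL''.compat U hU c W' g y.1 y.2 hy').trans ?_
      refine (congrArg (fun z => GrMod.locModMap (𝒮.res hU (hU.basicOpen c) (Y.basicOpen_le c))
        (𝒮.irrelevant_le_map U hU c) (ℳ.res hU (hU.basicOpen c) (Y.basicOpen_le c)) y.1
          (GrMod.val (V := RelProj.emb p chart U hU ⁻¹ᵁ W') z ⟨_, hy'⟩)) hg).trans ?_
      refine (GrMod.locModMap_smul _ _ _ y.1 _ _).trans ?_
      exact congrArg₂ (· • ·) (hL'.compat U hU c W b y.1 (h y.2) (h hy')).symm
        (hL.compat U hU c W a y.1 (h y.2) (h hy')).symm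
    refine ⟨⟨Y.basicOpen f, i.2.basicOpen f⟩, hx, fun W' h _ g' => ⟨step i.1 i.2 f W' h g', fun hh => ?_⟩⟩
    have h2 := step j.1 j.2 g W' h g' hh
    have key : ∀ (V : Y.Opens) (hV : IsAffineOpen V), V = Y.basicOpen g →
        (lam'' V hV).app W' g' = ((Scheme.Modules.pushforward (RelProj.emb p chart V hV)).obj
            (GrMod.tilde (𝒮.deg V hV) (ℳ.deg V hV) r)).presheaf.map (homOfLE h).op
            (modMul hr ((lam V hV).app W a) ((lam' V hV).app W b)) := by
      rintro V hV rfl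
      exact h2
    exact key _ _ hfg

/-- Multiplication `O(m) ⊗ O(n) → O(m + n)` on sections, as a natural bilinear family. -/
theorem exists_relModMulHom (hP : RelProj.IsRelProj 𝒮 p chart) (hr : m + n = r)
    (hL : RelProj.IsRelTilde 𝒮 p chart ℳ m L lam) (hL' : RelProj.IsRelTwist 𝒮 p chart n L' lam')
    (hL'' : RelProj.IsRelTilde 𝒮 p chart ℳ r L'' lam'') :
    ∃ φ : CohB1.tensorPre L L' ⟶ CohB1.toPMod L'', ∀ (U : Y.Opens) (hU : IsAffineOpen U) (W : P.Opens)
      (a : (CohB1.toPMod L).obj (op W)) (b : (CohB1.toPMod L').obj (op W)),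
      (lam'' U hU).app W (φ.app (op W) (a ⊗ₜ[P.sheaf.obj.obj (op W)] b)) =
        modMul hr ((lam U hU).app W a) ((lam' U hU).app W b) := by
  choose μ hμ hμu using existsUnique_relModMul hP hr hL hL' hL''
  refine ⟨ProjTwist.liftHom (M := CohB1.toPMod L) (N := CohB1.toPMod L') (T := CohB1.toPMod L'')
    (fun W a b => μ W.unop a b) ?_ ?_ ?_ ?_ ?_, fun U hU W a b => hμ W a b U hU⟩
  · intro W a a' b
    refine (hμu W.unop _ _ _ fun U hU => sect_ext' fun y => ?_).symm
    refine (congrArg (fun z => GrMod.val z y) ((map_add ((lam'' U hU).app W.unop).hom _ _).trans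
      (congrArg₂ (· + ·) (hμ W.unop a b U hU) (hμ W.unop a' b U hU)))).trans ?_
    refine Eq.trans ?_ (congrArg (GrTwist.val ((lam' U hU).app W.unop b) y • ·) (congrArg (fun z => GrMod.val z y)
      (map_add ((lam U hU).app W.unop).hom a a'))).symm
    exact (smul_add (GrTwist.val ((lam' U hU).app W.unop b) y) _ _).symm
  · intro W c a b
    refine (hμu W.unop _ _ _ fun U hU => sect_ext' fun y => ?_).symm
    refine (congrArg (fun z => GrMod.val z y) ((Scheme.Modules.Hom.app_smul (lam'' U hU) c _).trans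
      (congrArg (fun z => (show Γ(P, W.unop) from c) • z) (hμ W.unop a b U hU)))).trans ?_
    refine (sect_smul_val _ _ y).trans ?_
    refine Eq.trans ?_ (congrArg (GrTwist.val ((lam' U hU).app W.unop b) y • ·) ((congrArg (fun z => GrMod.val z y)
      (Scheme.Modules.Hom.app_smul (lam U hU) c a)).trans (sect_smul_val _ _ y))).symm
    exact smul_comm (M := GrTwist.Loc (𝒮.deg U hU) y.1) _ _ _
  · intro W a b b'
    refine (hμu W.unop _ _ _ fun U hU => sect_ext' fun y => ?_).symm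
    refine (congrArg (fun z => GrMod.val z y) ((map_add ((lam'' U hU).app W.unop).hom _ _).trans
      (congrArg₂ (· + ·) (hμ W.unop a b U hU) (hμ W.unop a b' U hU)))).trans ?_
    refine Eq.trans ?_ (congrArg (· • GrMod.val ((lam U hU).app W.unop a) y) (congrArg (fun z => GrTwist.val z y)
      (map_add ((lam' U hU).app W.unop).hom b b'))).symm
    exact (add_smul _ _ (GrMod.val ((lam U hU).app W.unop a) y)).symm
  · intro W c a b
    refine (hμu W.unop _ _ _ fun U hU => sect_ext' fun y => ?_).symm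
    refine (congrArg (fun z => GrMod.val z y) ((Scheme.Modules.Hom.app_smul (lam'' U hU) c _).trans
      (congrArg (fun z => (show Γ(P, W.unop) from c) • z) (hμ W.unop a b U hU)))).trans ?_
    refine (sect_smul_val _ _ y).trans ?_
    refine Eq.trans ?_ (congrArg (· • GrMod.val ((lam U hU).app W.unop a) y) ((congrArg (fun z => GrTwist.val z y)
      (Scheme.Modules.Hom.app_smul (lam' U hU) c b)).trans (twist_smul_val _ _ y))).symm
    exact (mul_smul _ _ _).symm
  · intro W W' f a b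
    refine (hμu W'.unop _ _ _ fun U hU => sect_ext' fun y => ?_).symm
    have h1 := QCohLib.app_map (lam'' U hU) f.unop.le (μ W.unop a b)
    have h2 := QCohLib.app_map (lam U hU) f.unop.le a
    have h3 := QCohLib.app_map (lam' U hU) f.unop.le b
    refine (congrArg (fun z => GrMod.val z y) (h1.trans (congrArg _ (hμ W.unop a b U hU)))).trans ?_
    exact (congrArg₂ (fun z z' => GrTwist.val z' y • GrMod.val z y) h2 h3).symm

/-- Near a point where the chart has a unit fraction, a generator `b₀` of `O(n)` with bijective pairing. -/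
theorem exists_relModMul_unit (hr : m + n = r) (hL : RelProj.IsRelTilde 𝒮 p chart ℳ m L lam)
    (hL' : RelProj.IsRelTwist 𝒮 p chart n L' lam') (hL'' : RelProj.IsRelTilde 𝒮 p chart ℳ r L'' lam'')
    (φ : CohB1.tensorPre L L' ⟶ CohB1.toPMod L'')
    (hφ : ∀ (U : Y.Opens) (hU : IsAffineOpen U) (W : P.Opens) (a : (CohB1.toPMod L).obj (op W))
      (b : (CohB1.toPMod L').obj (op W)),
      (lam'' U hU).app W (φ.app (op W) (a ⊗ₜ[P.sheaf.obj.obj (op W)] b)) =
        modMul hr ((lam U hU).app W a) ((lam' U hU).app W b))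
    (U : Y.Opens) (hU : IsAffineOpen U) (V : P.Opens) (hV : V ≤ p ⁻¹ᵁ U) {i j : ℕ} (g : 𝒮.deg U hU i)
    (h : 𝒮.deg U hU j) (hdeg : (i : ℤ) = j + n)
    (hg : ∀ y : (RelProj.emb p chart U hU ⁻¹ᵁ V : (Proj (𝒮.deg U hU)).Opens),
      (g : 𝒮.presheaf.obj (op U)) ∉ (show ProjectiveSpectrum (𝒮.deg U hU) from y.1).asHomogeneousIdeal)
    (hh : ∀ y : (RelProj.emb p chart U hU ⁻¹ᵁ V : (Proj (𝒮.deg U hU)).Opens),
      (h : 𝒮.presheaf.obj (op U)) ∉ (show ProjectiveSpectrum (𝒮.deg U hU) from y.1).asHomogeneousIdeal) :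
    ∃ b₀ : (CohB1.toPMod L').obj (op V),
      (Function.Bijective fun a : (CohB1.toPMod L).obj (op V) =>
        φ.app (op V) (a ⊗ₜ[P.sheaf.obj.obj (op V)] b₀)) ∧
      ∀ b : (CohB1.toPMod L').obj (op V), ∃ c : P.sheaf.obj.obj (op V), c • b₀ = b := by
  obtain ⟨b₀, hb₀⟩ := (hL'.bijective U hU V hV).2
    (twistFrac (RelProj.emb p chart U hU ⁻¹ᵁ V) g h hh hdeg)
  refine ⟨b₀, ?_, ?_⟩
  · refine (Function.Bijective.of_comp_iff' (hL''.bijective U hU V hV) _).mp ?_
    refine Eq.subst (motive := Function.Bijective) ?_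
      ((bijective_modMul_frac hr g h hg hh hdeg).comp (hL.bijective U hU V hV))
    exact funext fun a => ((hφ U hU V a b₀).trans (congrArg (fun z => modMul hr ((lam U hU).app V a) z) hb₀)).symm
  · exact (bijective_smul_relTwist hL' U hU hV b₀ g h hdeg hg hh fun y =>
      congrArg (fun z => GrTwist.val z y) hb₀).2

end relProj

end Groth.Agent.GrModFrac
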