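import Groth.Agent.GrModFrac.Basic
import Groth.Agent.ProjTwist.QCoh

/-!
# `M(n)~` is quasi-coherent (gradings by additive subgroups)
-/

set_option autoImplicit false
universe u
open CategoryTheory CategoryTheory.Limits AlgebraicGeometry Opposite TopologicalSpace

namespace Groth.Agent.GrModFrac

set_option synthInstance.maxHeartbeats 400000
set_option maxHeartbeats 1600000

variable {A σ : Type u} [CommRing A] [SetLike σ A] [AddSubgroupClass σ A] (𝒜 : ℕ → σ) [GradedRing 𝒜]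

theorem one_notMem (x : ProjectiveSpectrum 𝒜) : (1 : A) ∉ x.asHomogeneousIdeal := fun h =>
  x.isPrime.ne_top ((Ideal.eq_top_iff_one _).mpr h)

/-- The section `1 / 1` of `A(0)~`. -/
noncomputable def oneSect (D : Opens (ProjectiveSpectrum.top 𝒜)) : GrMod.sect 𝒜 𝒜 0 (op D) :=
  ⟨fun x => ⟨LocalizedModule.mk (1 : A) (⟨1, one_notMem 𝒜 x.1⟩ : x.1.asHomogeneousIdeal.toIdeal.primeCompl),
      Submodule.subset_span ⟨0, 0, ⟨1, SetLike.GradedOne.one_mem⟩, ⟨1, SetLike.GradedOne.one_mem⟩, one_notMem 𝒜 x.1,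
        by simp, rfl⟩⟩,
    fun x => ⟨D, x.2, 𝟙 _, 0, 0, ⟨1, SetLike.GradedOne.one_mem⟩, ⟨1, SetLike.GradedOne.one_mem⟩,
      fun y => one_notMem 𝒜 y.1, Or.inl (by simp), fun _ => rfl⟩⟩

section

variable {𝒜}
variable {M τ : Type u} [AddCommGroup M] [Module A M] [SetLike τ M] [AddSubgroupClass τ M] {ℳ : ℕ → τ}
  [SetLike.GradedSMul 𝒜 ℳ]

theorem sect_ext' {n : ℤ} {U : (Opens (ProjectiveSpectrum.top 𝒜))ᵒᵖ} {s t : GrMod.sect 𝒜 ℳ n U}
    (h : ∀ x : U.unop, (s.1 x).1 = (t.1 x).1) : s = t :=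
  Subtype.ext (funext fun x => Subtype.ext (h x))

theorem sect_smul_val {n : ℤ} {U : Opens (ProjectiveSpectrum.top 𝒜)} (c : GrTwist.O (𝒜 := 𝒜) (op U))
    (q : GrMod.sect 𝒜 ℳ n (op U)) (x : U) :
    ((c • q : GrMod.sect 𝒜 ℳ n (op U)).1 x).1 = (c.1 x).val • (q.1 x).1 :=
  GrMod.coe_smul_val _ _ _ _

end

variable {M τ : Type u} [AddCommGroup M] [Module A M] [SetLike τ M] [AddSubgroupClass τ M] (ℳ : ℕ → τ)
  [SetLike.GradedSMul 𝒜 ℳ] [DirectSum.Decomposition ℳ]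

/-- A regular function on `D₊(f)` is `a / f^k`, and its non-vanishing locus is `D₊(fa)`. -/
theorem exists_frac_regular {d : ℕ} (hd : 0 < d) {f : A} (hf : f ∈ 𝒜 d) (c : Γ(Proj 𝒜, Proj.basicOpen 𝒜 f)) :
    ∃ (k : ℕ) (a : A), a ∈ 𝒜 (k * d) ∧ (Proj 𝒜).basicOpen c = Proj.basicOpen 𝒜 (f * a) ∧
      ∀ (x : ProjectiveSpectrum 𝒜) (hx : f ∉ x.asHomogeneousIdeal),
        ((c.1 ⟨x, hx⟩).val : GrTwist.Loc 𝒜 x) =
          Localization.mk a (⟨f ^ k, fun h => hx (x.isPrime.mem_of_pow_mem k h)⟩ :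
            x.asHomogeneousIdeal.toIdeal.primeCompl) := by
  let D : (Proj 𝒜).Opens := Proj.basicOpen 𝒜 f
  let q : GrMod.sect 𝒜 𝒜 0 (op D) :=
    (show GrTwist.O (𝒜 := 𝒜) (op D) from c) •
      oneSect 𝒜 D
  obtain ⟨k, i, a, ha, hi, hq⟩ := exists_frac_basicOpen 𝒜 𝒜 0 hd hf q
  obtain rfl : i = k * d := by omega
  have hval : ∀ (x : ProjectiveSpectrum 𝒜) (hx : f ∉ x.asHomogeneousIdeal),
      ((c.1 ⟨x, hx⟩).val : GrTwist.Loc 𝒜 x) =
        Localization.mk a (⟨f ^ k, fun h => hx (x.isPrime.mem_of_pow_mem k h)⟩ :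
            x.asHomogeneousIdeal.toIdeal.primeCompl) := by
    intro x hx
    refine Eq.trans ?_ (hq x hx)
    refine Eq.trans ?_ (sect_smul_val (ℳ := 𝒜) (show GrTwist.O (𝒜 := 𝒜) (op D) from c) _ ⟨x, hx⟩).symm
    exact ((congrArg _ (Localization.mk_self (⟨1, one_notMem 𝒜 x⟩ :
      x.asHomogeneousIdeal.toIdeal.primeCompl))).trans (mul_one _)).symm
  refine ⟨k, a, ha, ?_, hval⟩
  ext x
  constructor
  · intro hx
    have hxD : x ∈ D := (Proj 𝒜).basicOpen_le c hx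
    have h1 := (((Scheme.mem_basicOpen (Proj 𝒜) c x hxD).mp hx).map
      (Proj.stalkIso' 𝒜 x).toRingHom)
    erw [Proj.stalkIso'_germ] at h1
    rw [← HomogeneousLocalization.isUnit_iff_isUnit_val] at h1
    erw [hval x hxD, Localization.mk_eq_mk', IsLocalization.AtPrime.isUnit_mk'_iff] at h1
    exact fun hc => (x.isPrime.mem_or_mem hc).elim hxD h1
  · intro hx
    have hxD : x ∈ D := fun hc => hx (Ideal.mul_mem_right _ _ hc)
    have hax : a ∉ x.asHomogeneousIdeal := fun hc => hx (Ideal.mul_mem_left _ _ hc)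
    refine (Scheme.mem_basicOpen (Proj 𝒜) c x hxD).mpr ?_
    refine (MulEquiv.isUnit_map (Proj.stalkIso' 𝒜 x)).mp ?_
    erw [Proj.stalkIso'_germ]
    rw [← HomogeneousLocalization.isUnit_iff_isUnit_val]
    erw [hval x hxD, Localization.mk_eq_mk', IsLocalization.AtPrime.isUnit_mk'_iff]
    exact hax

/-- `M(n)~` is quasi-coherent. -/
theorem isQuasicoherent_tilde (n : ℤ) : (GrMod.tilde 𝒜 ℳ n).IsQuasicoherent := by
  let ι : Type u := (d : {d : ℕ // 0 < d}) × 𝒜 d.1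
  let W : ι → (Proj 𝒜).affineOpens := fun s =>
    ⟨Proj.basicOpen 𝒜 (s.2 : A), Proj.isAffineOpen_basicOpen 𝒜 _ s.2.2 s.1.2⟩
  refine ProjTwist.isQuasicoherent_of_cover_sections _ W (fun x => ?_) (fun s c t ht => ?_) (fun s c t => ?_)
  · classical
    by_contra hc
    push Not at hc
    refine x.not_irrelevant_le fun a ha => ?_
    rw [← DirectSum.sum_support_decompose 𝒜 a]
    refine Ideal.sum_mem _ fun i _ => ?_
    rcases Nat.eq_zero_or_pos i with rfl | hi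
    · rw [(GradedRing.proj_apply (𝒜 := 𝒜) 0 a).symm.trans
        ((HomogeneousIdeal.mem_irrelevant_iff 𝒜 a).mp ha)]
      exact Submodule.zero_mem _
    · exact not_not.mp (hc ⟨⟨i, hi⟩, DirectSum.decompose 𝒜 a i⟩)
  · obtain ⟨⟨d, hd⟩, ⟨f, hf⟩⟩ := s
    obtain ⟨k, a, ha, hD, hc⟩ := exists_frac_regular 𝒜 hd hf c
    have hfa : f * a ∈ 𝒜 (d + k * d) := SetLike.mul_mem_graded hf ha
    let t' : GrMod.sect 𝒜 ℳ n (op (ProjectiveSpectrum.basicOpen 𝒜 f)) := t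
    obtain ⟨p, i, m, hm, hi, ht'⟩ := exists_frac_basicOpen 𝒜 ℳ n hd hf t'
    obtain ⟨N, hN⟩ := exists_pow_smul_eq_zero 𝒜 ℳ (Nat.add_pos_left hd _) hfa 0 i ⟨m, hm⟩ (by
      rintro ⟨x, hx⟩
      have hxf : f ∉ x.asHomogeneousIdeal := fun h => hx (Ideal.mul_mem_right _ _ h)
      have hxD : x ∈ (Proj 𝒜).basicOpen c := hD ▸ hx
      have h0 : (t'.1 ⟨x, hxf⟩).1 = 0 :=
        congrArg (fun v : GrMod.sect 𝒜 ℳ n (op ((Proj 𝒜).basicOpen c)) => (v.1 ⟨x, hxD⟩).1) ht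
      rw [ht' x hxf, ← LocalizedModule.zero_mk (S := x.asHomogeneousIdeal.toIdeal.primeCompl) 1,
        LocalizedModule.mk_eq] at h0
      rw [← LocalizedModule.zero_mk (S := x.asHomogeneousIdeal.toIdeal.primeCompl) 1, LocalizedModule.mk_eq]
      obtain ⟨u, hu⟩ := h0
      exact ⟨u, by simpa [Submonoid.smul_def] using hu⟩)
    refine ⟨N, sect_ext' fun (x : ProjectiveSpectrum.basicOpen 𝒜 f) => ?_⟩
    refine (sect_smul_val (show GrTwist.O (𝒜 := 𝒜) (op (ProjectiveSpectrum.basicOpen 𝒜 f)) from c ^ N) t' x).trans ?_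
    have hpow : ((show GrTwist.O (𝒜 := 𝒜) (op (ProjectiveSpectrum.basicOpen 𝒜 f)) from c ^ N).1 x).val =
        (c.1 ⟨x.1, x.2⟩).val ^ N := HomogeneousLocalization.val_pow (c.1 ⟨x.1, x.2⟩) N
    have hx' : (t'.1 x).1 = LocalizedModule.mk m
        (⟨f ^ p, fun h => x.2 (x.1.isPrime.mem_of_pow_mem p h)⟩ :
          x.1.asHomogeneousIdeal.toIdeal.primeCompl) := ht' x.1 x.2
    rw [hpow, hc x.1 x.2, hx']
    erw [Localization.mk_pow, LocalizedModule.mk_smul_mk]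
    show _ = (0 : GrMod.LocMod 𝒜 (M := M) x.1)
    rw [← LocalizedModule.zero_mk (S := x.1.asHomogeneousIdeal.toIdeal.primeCompl) 1, LocalizedModule.mk_eq]
    refine ⟨⟨f ^ N, fun h => x.2 (x.1.isPrime.mem_of_pow_mem N h)⟩, ?_⟩
    simp only [Submonoid.smul_def, one_smul, smul_zero, smul_smul]
    rw [← mul_pow]
    exact hN
  · obtain ⟨⟨d, hd⟩, ⟨f, hf⟩⟩ := s
    obtain ⟨k, a, ha, hD, hc⟩ := exists_frac_regular 𝒜 hd hf c
    have hfa : f * a ∈ 𝒜 (d + k * d) := SetLike.mul_mem_graded hf ha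
    have hle : Proj.basicOpen 𝒜 (f * a) ≤ (Proj 𝒜).basicOpen c := hD.ge
    let t' : GrMod.sect 𝒜 ℳ n (op (ProjectiveSpectrum.basicOpen 𝒜 (f * a))) :=
      (GrMod.tilde 𝒜 ℳ n).presheaf.map (homOfLE hle).op t
    obtain ⟨p, i, m, hm, hi, ht'⟩ := exists_frac_basicOpen 𝒜 ℳ n (Nat.add_pos_left hd _) hfa t'
    have hfk : f ^ (k * p + p) ∈ 𝒜 ((k * p + p) * d) := by
      simpa [smul_eq_mul] using SetLike.pow_mem_graded (k * p + p) hf
    let x₀ : GrMod.sect 𝒜 ℳ n (op (ProjectiveSpectrum.basicOpen 𝒜 f)) :=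
      ⟨fun y => ⟨LocalizedModule.mk m ⟨f ^ (k * p + p), fun h => y.2 (y.1.isPrime.mem_of_pow_mem _ h)⟩,
          Submodule.subset_span ⟨i, (k * p + p) * d, ⟨m, hm⟩, ⟨_, hfk⟩, _, by push_cast at hi ⊢; linarith, rfl⟩⟩,
        fun y => ⟨_, y.2, 𝟙 _, i, (k * p + p) * d, ⟨m, hm⟩, ⟨_, hfk⟩,
          fun z h => z.2 (z.1.isPrime.mem_of_pow_mem _ h),
          Or.inl (by push_cast at hi ⊢; linarith), fun z => rfl⟩⟩
    refine ⟨p, x₀, sect_ext' fun y => ?_⟩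
    revert y
    rintro ⟨(y₁ : ProjectiveSpectrum 𝒜), hy₁⟩
    let y : {z : ProjectiveSpectrum 𝒜 // z ∈ (Proj 𝒜).basicOpen c} := ⟨y₁, hy₁⟩
    have hy : y.1 ∈ Proj.basicOpen 𝒜 (f * a) := hD ▸ y.2
    refine Eq.trans ?_ (sect_smul_val (U := (Proj 𝒜).basicOpen c)
      (show GrTwist.O (𝒜 := 𝒜) (op ((Proj 𝒜).basicOpen c)) from
        ((Proj 𝒜).presheaf.map (homOfLE ((Proj 𝒜).basicOpen_le c)).op c) ^ p) t y).symm
    have hyf : f ∉ y.1.asHomogeneousIdeal := fun h => hy (Ideal.mul_mem_right _ _ h)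
    have hpow : ((show GrTwist.O (𝒜 := 𝒜) (op ((Proj 𝒜).basicOpen c)) from
        ((Proj 𝒜).presheaf.map (homOfLE ((Proj 𝒜).basicOpen_le c)).op c) ^ p).1 y).val =
        (c.1 ⟨y.1, hyf⟩).val ^ p := HomogeneousLocalization.val_pow (c.1 ⟨y.1, hyf⟩) p
    have hty : (t.1 y).1 = LocalizedModule.mk m
        (⟨(f * a) ^ p, fun h => hy (y.1.isPrime.mem_of_pow_mem p h)⟩ :
          y.1.asHomogeneousIdeal.toIdeal.primeCompl) := ht' y.1 hy
    rw [hpow, hc y.1 hyf, hty]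
    erw [Localization.mk_pow, LocalizedModule.mk_smul_mk]
    show LocalizedModule.mk m _ = _
    rw [LocalizedModule.mk_eq]
    refine ⟨1, ?_⟩
    simp only [Submonoid.smul_def, Submonoid.coe_mul, SubmonoidClass.coe_pow, one_smul,
      smul_smul]
    congr 1
    ring

/-- A module identified with quasi-coherent modules on a cover by open immersions is quasi-coherent. -/
theorem isQuasicoherent_of_charts {P : Scheme.{u}} {ι : Type u} {X : ι → Scheme.{u}} (f : ∀ i, X i ⟶ P)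
    [∀ i, IsOpenImmersion (f i)] (hf : ∀ x : P, ∃ i, x ∈ (f i).opensRange) {F : P.Modules}
    (T : ∀ i, (X i).Modules) (hT : ∀ i, (T i).IsQuasicoherent)
    (lam : ∀ i, F ⟶ (Scheme.Modules.pushforward (f i)).obj (T i))
    (hbij : ∀ i (V : (X i).Opens), Function.Bijective ((lam i).app (f i ''ᵁ V))) : F.IsQuasicoherent := by
  refine QCohLib.isQuasicoherent_of_cover f hf fun i => ?_
  have : IsIso ((Scheme.Modules.restrictFunctor (f i)).map (lam i)) := by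
    rw [Scheme.Modules.Hom.isIso_iff_isIso_app]
    intro V
    rw [ConcreteCategory.isIso_iff_bijective]
    exact hbij i V
  have : ((𝟭 (X i).Modules).obj (T i)).IsQuasicoherent := hT i
  exact QCohLib.isQuasicoherent_of_iso
    ((asIso ((Scheme.Modules.restrictFunctor (f i)).map (lam i))) ≪≫
      (Scheme.Modules.restrictFunctorAdjCounitIso (f i)).app (T i)).symm

end Groth.Agent.GrModFrac
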