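import Groth.Prelude.Def_RelProj2
import Groth.Agent.GrModFrac.QCoh
import Groth.Agent.GrModFrac.RelTilde
import Groth.Agent.GrModFrac.Glue
import Groth.Agent.ProjTwist.LocTriv

/-!
# Invertible sections of twisting sheaves (gradings by additive subgroups) and of relative twists
-/

set_option autoImplicit false
universe u
open CategoryTheory CategoryTheory.Limits AlgebraicGeometry Opposite TopologicalSpace

namespace Groth.Agent.GrModFrac

set_option synthInstance.maxHeartbeats 400000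
set_option maxHeartbeats 1600000

section ring

variable {A σ : Type u} [CommRing A] [SetLike σ A] [AddSubgroupClass σ A] {𝒜 : ℕ → σ} [GradedRing 𝒜]

theorem twistSect_ext {n : ℤ} {U : (Opens (ProjectiveSpectrum.top 𝒜))ᵒᵖ} {s t : GrTwist.sectN (𝒜 := 𝒜) n U}
    (h : ∀ x : U.unop, (s.1 x).1 = (t.1 x).1) : s = t :=
  Subtype.ext (funext fun x => Subtype.ext (h x))

theorem twist_smul_val {n : ℤ} {U : Opens (ProjectiveSpectrum.top 𝒜)} (c : GrTwist.O (𝒜 := 𝒜) (op U))
    (q : GrTwist.sectN (𝒜 := 𝒜) n (op U)) (x : U) : ((c • q).1 x).1 = (c.1 x).val * (q.1 x).1 :=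
  GrTwist.coe_smul_val _ _ _ _

/-- The section of `O(m)` over `U` given by one fraction. -/
noncomputable def twistFrac {m : ℤ} (U : Opens (ProjectiveSpectrum.top 𝒜)) {i j : ℕ} (g : 𝒜 i) (h : 𝒜 j)
    (hh : ∀ x : U, (h : A) ∉ x.1.asHomogeneousIdeal) (hdeg : (i : ℤ) = j + m) :
    GrTwist.sectN (𝒜 := 𝒜) m (op U) :=
  ⟨fun x => ⟨Localization.mk (g : A) ⟨(h : A), hh x⟩, Submodule.subset_span ⟨i, j, g, h, hh x, hdeg, rfl⟩⟩,
    fun x => ⟨U, x.2, 𝟙 _, i, j, g, h, hh, Or.inl hdeg, fun _ => rfl⟩⟩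

theorem mk_mul_mk_cancel {x : ProjectiveSpectrum 𝒜} {g h : A} (hg : g ∉ x.asHomogeneousIdeal)
    (hh : h ∉ x.asHomogeneousIdeal) :
    (Localization.mk g ⟨h, hh⟩ * Localization.mk h ⟨g, hg⟩ : GrTwist.Loc 𝒜 x) = 1 := by
  rw [Localization.mk_mul, ← Localization.mk_self (⟨h * g, fun hc =>
    (x.isPrime.mem_or_mem hc).elim hh hg⟩ : x.asHomogeneousIdeal.toIdeal.primeCompl)]
  congr 1
  exact mul_comm _ _

/-- Multiplication by a nowhere vanishing fraction of degree `m` identifies `O` with `O(m)`. -/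
theorem bijective_smul_twistFrac {m : ℤ} {W : Opens (ProjectiveSpectrum.top 𝒜)}
    {i j : ℕ} (g : 𝒜 i) (h : 𝒜 j) (hg : ∀ x : W, (g : A) ∉ x.1.asHomogeneousIdeal)
    (hh : ∀ x : W, (h : A) ∉ x.1.asHomogeneousIdeal) (hdeg : (i : ℤ) = j + m) :
    Function.Bijective fun c : GrTwist.O (𝒜 := 𝒜) (op W) =>
      (c • twistFrac W g h hh hdeg : GrTwist.sectN (𝒜 := 𝒜) m (op W)) := by
  refine ⟨fun c c' hcc => Subtype.ext (funext fun x => HomogeneousLocalization.val_injective _ ?_),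
    fun t => ?_⟩
  · have h1 : ((c • twistFrac W g h hh hdeg).1 x).1 = ((c' • twistFrac W g h hh hdeg).1 x).1 :=
      congrArg (fun s : GrTwist.sectN (𝒜 := 𝒜) m (op W) => (s.1 x).1) hcc
    rw [twist_smul_val, twist_smul_val] at h1
    have h2 := congrArg (· * Localization.mk (h : A) ⟨(g : A), hg x⟩) h1
    simp only [mul_assoc] at h2
    erw [mk_mul_mk_cancel (hg x) (hh x), mul_one, mul_one] at h2
    exact h2
  · have key : ∀ x : W, ∃ (V : Opens (ProjectiveSpectrum.top 𝒜)) (_ : x.1 ∈ V) (ι : V ⟶ W) (k : ℕ)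
        (a s : 𝒜 k) (hs : ∀ y : V, (s : A) ∉ y.1.asHomogeneousIdeal),
        ∀ y : V, (t.1 (ι y)).1 * Localization.mk (h : A) ⟨(g : A), hg (ι y)⟩ =
          (Localization.mk (a : A) ⟨(s : A), hs y⟩ : GrTwist.Loc 𝒜 y.1) := by
      intro x
      obtain ⟨V, hV, ι, i', j', ⟨a, ha⟩, ⟨s, hs⟩, hsn, hdeg', hw⟩ := t.2 x
      replace hdeg' : (i' : ℤ) = j' + m ∨ a = 0 := hdeg'
      have hah : a * (h : A) ∈ 𝒜 (j' + i) := by
        rcases hdeg' with e | e
        · have e' : j' + i = i' + j := by omega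
          rw [e']
          exact SetLike.mul_mem_graded ha h.2
        · rw [e, zero_mul]; exact zero_mem _
      refine ⟨V, hV, ι, j' + i, ⟨_, hah⟩, ⟨_, SetLike.mul_mem_graded hs g.2⟩,
        fun y hc => (y.1.isPrime.mem_or_mem hc).elim (hsn y) (hg (ι y)), fun y => ?_⟩
      erw [hw y, Localization.mk_mul]
      rfl
    choose V hV ι k a s hs hw using key
    let c : ∀ x : W, GrTwist.A0 𝒜 x.1 := fun x =>
      HomogeneousLocalization.mk ⟨k x, a x, s x, hs x ⟨x.1, hV x⟩⟩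
    have hc : ∀ x : W, (c x).val = (t.1 x).1 * Localization.mk (h : A) ⟨(g : A), hg x⟩ := fun x => by
      rw [HomogeneousLocalization.val_mk]
      exact (hw x ⟨x.1, hV x⟩).symm
    refine ⟨⟨c, fun x => ⟨V x, hV x, ι x, k x, a x, s x, fun y => hs x y, fun y => ?_⟩⟩, twistSect_ext fun x => ?_⟩
    · apply HomogeneousLocalization.val_injective
      rw [HomogeneousLocalization.val_mk]
      exact (hc _).trans (hw x y)
    · refine (twist_smul_val _ _ x).trans ?_
      show (c x).val * Localization.mk (g : A) ⟨(h : A), hh x⟩ = (t.1 x).1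
      rw [hc x, mul_assoc, mk_mul_mk_cancel (hh x) (hg x), mul_one]

/-- An element of degree `d` not in `x` gives degree-`k * d` unit fractions at `x`, defined on all of its basic open. -/
theorem exists_unitFrac {d : ℕ} {f : A} (hf : f ∈ 𝒜 d) (k : ℤ) :
    ∃ (i j : ℕ) (g : 𝒜 i) (h : 𝒜 j), (i : ℤ) = j + k * d ∧
      ∀ x : ProjectiveSpectrum 𝒜, f ∉ x.asHomogeneousIdeal →
        (g : A) ∉ x.asHomogeneousIdeal ∧ (h : A) ∉ x.asHomogeneousIdeal := by
  have hm : ∀ l : ℕ, f ^ l ∈ 𝒜 (l * d) := fun l => by simpa [smul_eq_mul] using SetLike.pow_mem_graded l hf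
  have hp : ∀ (x : ProjectiveSpectrum 𝒜) (l : ℕ), f ∉ x.asHomogeneousIdeal → f ^ l ∉ x.asHomogeneousIdeal :=
    fun x l hx h => hx (x.isPrime.mem_of_pow_mem l h)
  obtain ⟨l, rfl | rfl⟩ := Int.eq_nat_or_neg k
  · exact ⟨l * d, 0, ⟨_, hm l⟩, ⟨1, SetLike.GradedOne.one_mem⟩, by push_cast; ring,
      fun x hx => ⟨hp x l hx, one_notMem 𝒜 x⟩⟩
  · exact ⟨0, l * d, ⟨1, SetLike.GradedOne.one_mem⟩, ⟨_, hm l⟩, by push_cast; ring,
      fun x hx => ⟨one_notMem 𝒜 x, hp x l hx⟩⟩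

/-- If `A` is generated by its degree `0` and `1` parts, no point contains all of degree one. -/
theorem exists_degOne_notMem (hgen : Subring.closure ((𝒜 0 : Set A) ∪ (𝒜 1 : Set A)) = ⊤)
    (x : ProjectiveSpectrum 𝒜) : ∃ f ∈ 𝒜 1, f ∉ x.asHomogeneousIdeal := by
  by_contra hc
  push Not at hc
  refine x.not_irrelevant_le fun a ha => ?_
  have key : ∀ b : A, b - ((DirectSum.decompose 𝒜 b 0 : 𝒜 0) : A) ∈ x.asHomogeneousIdeal.toIdeal := by
    intro b
    have hb : b ∈ Subring.closure ((𝒜 0 : Set A) ∪ (𝒜 1 : Set A)) := by rw [hgen]; trivial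
    induction hb using Subring.closure_induction with
    | mem b hb =>
      rcases hb with hb | hb
      · rw [DirectSum.decompose_of_mem_same 𝒜 hb, sub_self]; exact zero_mem _
      · rw [DirectSum.decompose_of_mem_ne 𝒜 hb one_ne_zero, sub_zero]; exact hc b hb
    | zero => simp
    | one => rw [DirectSum.decompose_of_mem_same 𝒜 SetLike.GradedOne.one_mem, sub_self]; exact zero_mem _
    | add b c _ _ h1 h2 =>
      have e : b + c - ((DirectSum.decompose 𝒜 (b + c) 0 : 𝒜 0) : A) =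
          (b - (DirectSum.decompose 𝒜 b 0 : A)) + (c - (DirectSum.decompose 𝒜 c 0 : A)) := by
        rw [DirectSum.decompose_add]; simp only [DirectSum.add_apply, AddMemClass.coe_add]; ring
      rw [e]; exact add_mem h1 h2
    | neg b _ h1 =>
      have e : -b - ((DirectSum.decompose 𝒜 (-b) 0 : 𝒜 0) : A) = -(b - (DirectSum.decompose 𝒜 b 0 : A)) := by
        have h0 := (GradedRing.projZeroRingHom 𝒜).map_neg b
        simp only [GradedRing.projZeroRingHom_apply] at h0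
        rw [h0]; ring
      rw [e]; exact neg_mem h1
    | mul b c _ _ h1 h2 =>
      have h0 := (GradedRing.projZeroRingHom 𝒜).map_mul b c
      simp only [GradedRing.projZeroRingHom_apply] at h0
      have e : b * c - ((DirectSum.decompose 𝒜 (b * c) 0 : 𝒜 0) : A) =
          (b - (DirectSum.decompose 𝒜 b 0 : A)) * c + (DirectSum.decompose 𝒜 b 0 : A) * (c - (DirectSum.decompose 𝒜 c 0 : A)) := by
        rw [h0]; ring
      rw [e]; exact add_mem (Ideal.mul_mem_right _ _ h1) (Ideal.mul_mem_left _ _ h2)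
  have h1 := key a
  rw [(GradedRing.proj_apply (𝒜 := 𝒜) 0 a).symm.trans ((HomogeneousIdeal.mem_irrelevant_iff 𝒜 a).mp ha),
    sub_zero] at h1
  exact h1

end ring

section relTwist

/-- A section corresponding to a nowhere vanishing section under a chart generates freely. -/
theorem bijective_smul_of_chart {X P : Scheme.{u}} (f : X ⟶ P) [IsOpenImmersion f] {L : P.Modules}
    {T : X.Modules} (lam : L ⟶ (Scheme.Modules.pushforward f).obj T) {W : P.Opens} (hW : W ≤ f.opensRange)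
    (hlam : Function.Bijective (lam.app W)) (σ : Γ(L, W))
    (hbij : Function.Bijective fun c : Γ(X, f ⁻¹ᵁ W) => c • (show Γ(T, f ⁻¹ᵁ W) from lam.app W σ)) :
    Function.Bijective fun r : Γ(P, W) => r • σ := by
  have : IsIso (f.app W) := f.isIso_app W hW
  refine (Function.Bijective.of_comp_iff' hlam _).mp ?_
  refine Eq.subst (motive := Function.Bijective) ?_ (hbij.comp (ConcreteCategory.bijective_of_isIso (f.app W)))
  exact funext fun r => (Scheme.Modules.Hom.app_smul lam r σ).symm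

variable {Y P : Scheme.{u}} {𝒮 : RelProj.QCGrAlg Y} {p : P ⟶ Y}
  {chart : ∀ (U : Y.Opens) (hU : IsAffineOpen U), (((p ⁻¹ᵁ U : P.Opens) : Scheme.{u}) ≅ Proj (𝒮.deg U hU))}

theorem mem_range_emb (U : Y.Opens) (hU : IsAffineOpen U) {x : P} (hx : x ∈ p ⁻¹ᵁ U) :
    x ∈ Set.range (RelProj.emb p chart U hU) := by
  refine ⟨(chart U hU).hom ⟨x, hx⟩, ?_⟩
  show (p ⁻¹ᵁ U).ι ((chart U hU).inv ((chart U hU).hom ⟨x, hx⟩)) = x
  rw [← Scheme.Hom.comp_apply, ← Scheme.Hom.comp_apply, Iso.hom_inv_id_assoc]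
  rfl

theorem le_opensRange_emb (U : Y.Opens) (hU : IsAffineOpen U) {W : P.Opens} (hW : W ≤ p ⁻¹ᵁ U) :
    W ≤ (RelProj.emb p chart U hU).opensRange := fun _ hx => mem_range_emb U hU (hW hx)

/-- A section of a relative twist reading as an invertible fraction generates freely. -/
theorem bijective_smul_relTwist {n : ℤ} {L : P.Modules}
    {lam : ∀ (U : Y.Opens) (hU : IsAffineOpen U),
      L ⟶ (Scheme.Modules.pushforward (RelProj.emb p chart U hU)).obj (GrTwist.twist (𝒮.deg U hU) n)}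
    (hL : RelProj.IsRelTwist 𝒮 p chart n L lam) (U : Y.Opens) (hU : IsAffineOpen U) {W : P.Opens}
    (hW : W ≤ p ⁻¹ᵁ U) (σ : Γ(L, W)) {i j : ℕ} (g : 𝒮.deg U hU i) (h : 𝒮.deg U hU j) (hdeg : (i : ℤ) = j + n)
    (hg : ∀ y : (RelProj.emb p chart U hU ⁻¹ᵁ W : (Proj (𝒮.deg U hU)).Opens),
      (g : 𝒮.presheaf.obj (op U)) ∉ (show ProjectiveSpectrum (𝒮.deg U hU) from y.1).asHomogeneousIdeal)
    (hh : ∀ y : (RelProj.emb p chart U hU ⁻¹ᵁ W : (Proj (𝒮.deg U hU)).Opens),
      (h : 𝒮.presheaf.obj (op U)) ∉ (show ProjectiveSpectrum (𝒮.deg U hU) from y.1).asHomogeneousIdeal)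
    (hσ : ∀ y, GrTwist.val ((lam U hU).app W σ) y = Localization.mk (g : 𝒮.presheaf.obj (op U)) ⟨_, hh y⟩) :
    Function.Bijective fun r : Γ(P, W) => r • σ := by
  refine bijective_smul_of_chart _ (lam U hU) (le_opensRange_emb U hU hW) (hL.bijective U hU W hW) σ ?_
  have e : (lam U hU).app W σ = twistFrac (RelProj.emb p chart U hU ⁻¹ᵁ W) g h hh hdeg :=
    twistSect_ext hσ
  rw [e]
  exact bijective_smul_twistFrac g h hg hh hdeg

/-- The value of a restricted section of a relative twist. -/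
theorem val_lam_map {n : ℤ} {L : P.Modules}
    (lam : ∀ (U : Y.Opens) (hU : IsAffineOpen U),
      L ⟶ (Scheme.Modules.pushforward (RelProj.emb p chart U hU)).obj (GrTwist.twist (𝒮.deg U hU) n))
    (U : Y.Opens) (hU : IsAffineOpen U) {W V : P.Opens} (h : W ≤ V) (σ : Γ(L, V))
    (y : (RelProj.emb p chart U hU ⁻¹ᵁ W : (Proj (𝒮.deg U hU)).Opens)) :
    GrTwist.val ((lam U hU).app W (L.presheaf.map (homOfLE h).op σ)) y =
      GrTwist.val ((lam U hU).app V σ) ⟨y.1, h y.2⟩ := by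
  rw [QCohLib.app_map]
  rfl

/-- Membership in an open given on a chart. -/
theorem emb_mem_iff (U : Y.Opens) (hU : IsAffineOpen U) {Xf : P.Opens} (D : (Proj (𝒮.deg U hU)).Opens)
    (h : Xf ⊓ p ⁻¹ᵁ U = (p ⁻¹ᵁ U).ι ''ᵁ ((chart U hU).hom ⁻¹ᵁ D)) (y : Proj (𝒮.deg U hU)) :
    RelProj.emb p chart U hU y ∈ Xf ↔ y ∈ D := by
  have hy : (chart U hU).hom ((chart U hU).inv y) = y := by
    rw [← Scheme.Hom.comp_apply, Iso.inv_hom_id]; rfl
  constructor
  · intro hx
    have hx' : RelProj.emb p chart U hU y ∈ Xf ⊓ p ⁻¹ᵁ U := ⟨hx, ((chart U hU).inv y).2⟩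
    rw [h] at hx'
    obtain ⟨z, hz, hzy⟩ := hx'
    have hz' : z = (chart U hU).inv y := Subtype.ext hzy
    have hz2 : (chart U hU).hom z ∈ D := hz
    rwa [hz', hy] at hz2
  · intro hyD
    have hx' : RelProj.emb p chart U hU y ∈ (p ⁻¹ᵁ U).ι ''ᵁ ((chart U hU).hom ⁻¹ᵁ D) :=
      ⟨(chart U hU).inv y, show (chart U hU).hom ((chart U hU).inv y) ∈ D from hy.symm ▸ hyD, rfl⟩
    rw [← h] at hx'
    exact hx'.1

end relTwist

end Groth.Agent.GrModFrac
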