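import Groth.Prelude.Def_RelProj2
import Groth.Agent.GrModFrac.Twist

/-!
# Restriction of a graded algebra between nested affine opens, at a point of the relative Proj
-/

set_option autoImplicit false
universe u
open CategoryTheory CategoryTheory.Limits AlgebraicGeometry Opposite TopologicalSpace

namespace Groth.Agent.GrModFrac

variable {Y P : Scheme.{u}} {𝒮 : RelProj.QCGrAlg Y} {p : P ⟶ Y}
  (chart : ∀ (U : Y.Opens) (hU : IsAffineOpen U), (((p ⁻¹ᵁ U : P.Opens) : Scheme.{u}) ≅ Proj (𝒮.deg U hU)))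

/-- The point of `Proj 𝒮(U)` under a point of `p⁻¹(U)`. -/
noncomputable def chartPt (U : Y.Opens) (hU : IsAffineOpen U) (x : P) (hx : p x ∈ U) : ProjectiveSpectrum (𝒮.deg U hU) :=
  (chart U hU).hom ⟨x, hx⟩

theorem emb_chartPt (U : Y.Opens) (hU : IsAffineOpen U) (x : P) (hx : p x ∈ U) :
    RelProj.emb p chart U hU (chartPt chart U hU x hx) = x := by
  show (p ⁻¹ᵁ U).ι ((chart U hU).inv ((chart U hU).hom ⟨x, hx⟩)) = x
  rw [← Scheme.Hom.comp_apply, ← Scheme.Hom.comp_apply, Iso.hom_inv_id_assoc]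
  rfl

theorem emb_mem_self (U : Y.Opens) (hU : IsAffineOpen U) (y : Proj (𝒮.deg U hU)) :
    p (RelProj.emb p chart U hU y) ∈ U :=
  ((chart U hU).inv y).2

theorem chartPt_emb (U : Y.Opens) (hU : IsAffineOpen U) (y : Proj (𝒮.deg U hU)) (h : p (RelProj.emb p chart U hU y) ∈ U) :
    chartPt chart U hU (RelProj.emb p chart U hU y) h = y :=
  (RelProj.emb p chart U hU).isOpenEmbedding.injective (emb_chartPt chart U hU _ h)

/-- A homogeneous element over a basic open lifts, up to a power of the function. -/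
theorem exists_homog_lift (U : Y.Opens) (hU : IsAffineOpen U) (r : Γ(Y, U)) {i : ℕ}
    (a : 𝒮.presheaf.obj (op (Y.basicOpen r))) (ha : a ∈ 𝒮.deg _ (hU.basicOpen r) i) :
    ∃ (k : ℕ) (a' : 𝒮.presheaf.obj (op U)), a' ∈ 𝒮.deg U hU i ∧
      𝒮.res hU (hU.basicOpen r) (Y.basicOpen_le r) a' =
        a * 𝒮.res hU (hU.basicOpen r) (Y.basicOpen_le r) ((𝒮.str.app (op U)).hom r) ^ k := by
  classical
  let res := 𝒮.res hU (hU.basicOpen r) (Y.basicOpen_le r)
  letI := (𝒮.presheaf.map (homOfLE (Y.basicOpen_le r)).op).hom.toAlgebra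
  haveI : IsLocalization.Away ((𝒮.str.app (op U)).hom r) (𝒮.presheaf.obj (op (Y.basicOpen r))) := 𝒮.isQC U hU r
  obtain ⟨k, c, hc⟩ := IsLocalization.Away.surj ((𝒮.str.app (op U)).hom r) a
  refine ⟨k, (DirectSum.decompose (𝒮.deg U hU) c i : 𝒮.presheaf.obj (op U)), (DirectSum.decompose _ c i).2, ?_⟩
  have hr : res ((𝒮.str.app (op U)).hom r) ^ k ∈ 𝒮.deg _ (hU.basicOpen r) 0 := by
    have h0 := SetLike.pow_mem_graded k (res.map_mem (𝒮.str_mem U hU r))
    rwa [smul_zero] at h0
  have hmem : a * res ((𝒮.str.app (op U)).hom r) ^ k ∈ 𝒮.deg _ (hU.basicOpen r) i := by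
    have := SetLike.mul_mem_graded ha hr
    rwa [add_zero] at this
  have hc' : res c = a * res ((𝒮.str.app (op U)).hom r) ^ k := hc.symm
  rw [← DirectSum.decompose_of_mem_same _ hmem, ← hc']
  conv_rhs => rw [← DirectSum.sum_support_decompose (𝒮.deg U hU) c, map_sum, DirectSum.decompose_sum,
    DFinsupp.finsetSum_apply, AddSubmonoidClass.coe_finsetSum]
  rw [Finset.sum_eq_single i]
  · exact (DirectSum.decompose_of_mem_same _ (res.map_mem (DirectSum.decompose _ c i).2)).symm
  · intro j _ hj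
    exact DirectSum.decompose_of_mem_ne _ (res.map_mem (DirectSum.decompose _ c j).2) hj
  · intro h
    rw [DFinsupp.notMem_support_iff.mp h]
    simp only [ZeroMemClass.coe_zero, map_zero]
    rw [DirectSum.decompose_zero]
    rfl

variable {chart} (hP : RelProj.IsRelProj 𝒮 p chart)
include hP

theorem comap_chartPt (U : Y.Opens) (hU : IsAffineOpen U) (r : Γ(Y, U)) (x : P) (hx : p x ∈ Y.basicOpen r) :
    ProjectiveSpectrum.comap (𝒮.res hU (hU.basicOpen r) (Y.basicOpen_le r)) (𝒮.irrelevant_le_map U hU r)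
        (chartPt chart _ (hU.basicOpen r) x hx) =
      chartPt chart U hU x (Y.basicOpen_le r hx) := by
  apply (RelProj.emb p chart U hU).isOpenEmbedding.injective
  rw [emb_chartPt]
  conv_rhs => rw [← emb_chartPt chart _ (hU.basicOpen r) x hx, ← RelProj.map_res_emb hP U hU r]
  rfl

theorem chartPt_preimage_basic (U : Y.Opens) (hU : IsAffineOpen U) (r : Γ(Y, U)) (V : Y.Opens) (hV : IsAffineOpen V)
    (e : V = Y.basicOpen r) (h : V ≤ U) (x : P) (hx : p x ∈ V) :
    (chartPt chart U hU x (h hx)).asHomogeneousIdeal.toIdeal =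
      (chartPt chart V hV x hx).asHomogeneousIdeal.toIdeal.comap (𝒮.res hU hV h).toRingHom := by
  subst e
  rw [← comap_chartPt hP U hU r x hx]
  rfl

theorem chartPt_preimage (U : Y.Opens) (hU : IsAffineOpen U) (V : Y.Opens) (hV : IsAffineOpen V)
    (h : V ≤ U) (x : P) (hx : p x ∈ V) :
    (chartPt chart U hU x (h hx)).asHomogeneousIdeal.toIdeal =
      (chartPt chart V hV x hx).asHomogeneousIdeal.toIdeal.comap (𝒮.res hU hV h).toRingHom := by
  obtain ⟨a, b, hab, hxa⟩ := exists_basicOpen_le_affine_inter hU hV (p x) ⟨h hx, hx⟩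
  have h1 := chartPt_preimage_basic hP U hU a (Y.basicOpen a) (hU.basicOpen a) rfl (Y.basicOpen_le a) x hxa
  have h2 := chartPt_preimage_basic hP V hV b (Y.basicOpen a) (hU.basicOpen a) hab (hab ▸ Y.basicOpen_le b) x hxa
  rw [h1, h2, Ideal.comap_comap]
  congr 1
  ext c
  show _ = (𝒮.presheaf.map _).hom ((𝒮.presheaf.map _).hom c)
  rw [← CommRingCat.comp_apply, ← Functor.map_comp]
  rfl

/-- The map of localisations at a point of the relative Proj induced by restriction. -/
noncomputable def resLoc {U : Y.Opens} (hU : IsAffineOpen U) {V : Y.Opens} (hV : IsAffineOpen V) (h : V ≤ U)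
    (x : P) (hx : p x ∈ V) :
    GrTwist.Loc (𝒮.deg U hU) (chartPt chart U hU x (h hx)) →+* GrTwist.Loc (𝒮.deg V hV) (chartPt chart V hV x hx) :=
  Localization.localRingHom _ _ (𝒮.res hU hV h).toRingHom (chartPt_preimage hP U hU V hV h x hx)

theorem resLoc_mk {U : Y.Opens} (hU : IsAffineOpen U) {V : Y.Opens} (hV : IsAffineOpen V) (h : V ≤ U)
    (x : P) (hx : p x ∈ V) (a : 𝒮.presheaf.obj (op U))
    (s : (chartPt chart U hU x (h hx)).asHomogeneousIdeal.toIdeal.primeCompl) :
    resLoc hP hU hV h x hx (Localization.mk a s) = Localization.mk (𝒮.res hU hV h a)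
      (⟨𝒮.res hU hV h s.1, fun hc => s.2 ((chartPt_preimage hP U hU V hV h x hx).ge hc)⟩ :
        (chartPt chart V hV x hx).asHomogeneousIdeal.toIdeal.primeCompl) := by
  rw [Localization.mk_eq_mk', Localization.mk_eq_mk']
  exact Localization.localRingHom_mk' _ _ _ _ a s

theorem resLoc_trans {U : Y.Opens} (hU : IsAffineOpen U) {V : Y.Opens} (hV : IsAffineOpen V) {W : Y.Opens}
    (hW : IsAffineOpen W) (h : V ≤ U) (h' : W ≤ V) (x : P) (hx : p x ∈ W)
    (q : GrTwist.Loc (𝒮.deg U hU) (chartPt chart U hU x (h (h' hx)))) :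
    resLoc hP hV hW h' x hx (resLoc hP hU hV h x (h' hx) q) = resLoc hP hU hW (h'.trans h) x hx q := by
  induction q using Localization.induction_on with
  | H t =>
    obtain ⟨a, s⟩ := t
    rw [resLoc_mk, resLoc_mk, resLoc_mk]
    have e : ∀ c : 𝒮.presheaf.obj (op U), 𝒮.res hV hW h' (𝒮.res hU hV h c) = 𝒮.res hU hW (h'.trans h) c := by
      intro c
      simp only [RelProj.QCGrAlg.res_apply]
      rw [← CommRingCat.comp_apply, ← Functor.map_comp]
      rfl
    congr 1
    · exact e a
    · exact Subtype.ext (e s.1)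

theorem str_notMem (U : Y.Opens) (hU : IsAffineOpen U) (r : Γ(Y, U)) (x : P) (hx : p x ∈ Y.basicOpen r) :
    (𝒮.str.app (op U)).hom r ∉ (chartPt chart U hU x (Y.basicOpen_le r hx)).asHomogeneousIdeal := by
  intro hc
  have h := (chartPt_preimage hP U hU _ (hU.basicOpen r) (Y.basicOpen_le r) x hx).le hc
  refine (chartPt chart _ (hU.basicOpen r) x hx).isPrime.ne_top (Ideal.eq_top_of_isUnit_mem _ h ?_)
  letI := (𝒮.presheaf.map (homOfLE (Y.basicOpen_le r)).op).hom.toAlgebra
  haveI : IsLocalization.Away ((𝒮.str.app (op U)).hom r) (𝒮.presheaf.obj (op (Y.basicOpen r))) := 𝒮.isQC U hU r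
  exact IsLocalization.Away.algebraMap_isUnit ((𝒮.str.app (op U)).hom r)

theorem resLoc_bijective_basic (U : Y.Opens) (hU : IsAffineOpen U) (r : Γ(Y, U)) (V : Y.Opens) (hV : IsAffineOpen V)
    (e : V = Y.basicOpen r) (h : V ≤ U) (x : P) (hx : p x ∈ V) : Function.Bijective (resLoc hP hU hV h x hx) := by
  subst e
  letI := (𝒮.presheaf.map (homOfLE (Y.basicOpen_le r)).op).hom.toAlgebra
  haveI : IsLocalization.Away ((𝒮.str.app (op U)).hom r) (𝒮.presheaf.obj (op (Y.basicOpen r))) := 𝒮.isQC U hU r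
  have hr := str_notMem hP U hU r x hx
  have hpow : ∀ k : ℕ, (𝒮.str.app (op U)).hom r ^ k ∉ (chartPt chart U hU x (h hx)).asHomogeneousIdeal :=
    fun k hc => hr ((chartPt chart U hU x (h hx)).isPrime.mem_of_pow_mem k hc)
  have hpre : ∀ c, 𝒮.res hU (hU.basicOpen r) h c ∈ (chartPt chart _ (hU.basicOpen r) x hx).asHomogeneousIdeal →
      c ∈ (chartPt chart U hU x (h hx)).asHomogeneousIdeal := fun c hc =>
    (chartPt_preimage hP U hU _ (hU.basicOpen r) h x hx).ge hc
  refine ⟨(injective_iff_map_eq_zero _).mpr fun q hq => ?_, fun q => ?_⟩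
  · induction q using Localization.induction_on with
    | H t =>
      obtain ⟨a, s⟩ := t
      rw [resLoc_mk, ← Localization.mk_zero 1, Localization.mk_eq_mk_iff, Localization.r_iff_exists] at hq
      obtain ⟨⟨w, hw⟩, hwa⟩ := hq
      simp only [OneMemClass.coe_one, one_mul, mul_zero] at hwa
      obtain ⟨k, w', hk⟩ := IsLocalization.Away.surj ((𝒮.str.app (op U)).hom r) w
      have hw' : w' ∉ (chartPt chart U hU x (h hx)).asHomogeneousIdeal := by
        intro hc
        have h2 := (chartPt_preimage hP U hU _ (hU.basicOpen r) h x hx).le hc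
        rw [Ideal.mem_comap] at h2
        rw [show (𝒮.res hU (hU.basicOpen r) h).toRingHom w' = _ from hk.symm] at h2
        rcases (chartPt chart _ (hU.basicOpen r) x hx).isPrime.mem_or_mem h2 with h3 | h3
        · exact hw h3
        · exact hpow k (hpre _ (by rw [map_pow]; exact h3))
      have h0 : algebraMap (𝒮.presheaf.obj (op U)) (𝒮.presheaf.obj (op (Y.basicOpen r))) (w' * a) = 0 := by
        rw [map_mul, ← hk, mul_right_comm]
        exact mul_eq_zero_of_left hwa _
      obtain ⟨⟨c, m, rfl⟩, hm⟩ := (IsLocalization.map_eq_zero_iff (Submonoid.powers ((𝒮.str.app (op U)).hom r)) _ _).mp h0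
      rw [← Localization.mk_zero 1, Localization.mk_eq_mk_iff, Localization.r_iff_exists]
      refine ⟨⟨(𝒮.str.app (op U)).hom r ^ m * w', fun hc =>
        ((chartPt chart U hU x (h hx)).isPrime.mem_or_mem hc).elim (hpow m) hw'⟩, ?_⟩
      simp only [OneMemClass.coe_one, one_mul, mul_zero]
      rw [mul_assoc]
      exact hm
  · induction q using Localization.induction_on with
    | H t =>
      obtain ⟨a, s, hs⟩ := t
      obtain ⟨i, a', ha⟩ := IsLocalization.Away.surj ((𝒮.str.app (op U)).hom r) a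
      obtain ⟨j, s', hs'⟩ := IsLocalization.Away.surj ((𝒮.str.app (op U)).hom r) s
      have hs'' : s' ∉ (chartPt chart U hU x (h hx)).asHomogeneousIdeal := by
        intro hc
        have h2 := (chartPt_preimage hP U hU _ (hU.basicOpen r) h x hx).le hc
        rw [Ideal.mem_comap] at h2
        rw [show (𝒮.res hU (hU.basicOpen r) h).toRingHom s' = _ from hs'.symm] at h2
        rcases (chartPt chart _ (hU.basicOpen r) x hx).isPrime.mem_or_mem h2 with h3 | h3
        · exact hs h3
        · exact hpow j (hpre _ (by rw [map_pow]; exact h3))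
      refine ⟨Localization.mk (a' * (𝒮.str.app (op U)).hom r ^ j) ⟨s' * (𝒮.str.app (op U)).hom r ^ i,
        fun hc => ((chartPt chart U hU x (h hx)).isPrime.mem_or_mem hc).elim hs'' (hpow i)⟩, ?_⟩
      rw [resLoc_mk, Localization.mk_eq_mk_iff, Localization.r_iff_exists]
      refine ⟨1, ?_⟩
      simp only [OneMemClass.coe_one, one_mul]
      show s * algebraMap (𝒮.presheaf.obj (op U)) (𝒮.presheaf.obj (op (Y.basicOpen r))) _ =
        algebraMap (𝒮.presheaf.obj (op U)) (𝒮.presheaf.obj (op (Y.basicOpen r))) _ * a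
      rw [map_mul, map_mul, ← ha, ← hs', map_pow, map_pow]
      ring

theorem resLoc_bijective {U : Y.Opens} (hU : IsAffineOpen U) {V : Y.Opens} (hV : IsAffineOpen V) (h : V ≤ U)
    (x : P) (hx : p x ∈ V) : Function.Bijective (resLoc hP hU hV h x hx) := by
  obtain ⟨a, b, hab, hxa⟩ := exists_basicOpen_le_affine_inter hU hV (p x) ⟨h hx, hx⟩
  have h1 := resLoc_bijective_basic hP U hU a _ (hU.basicOpen a) rfl (Y.basicOpen_le a) x hxa
  have h2 := resLoc_bijective_basic hP V hV b _ (hU.basicOpen a) hab (hab ▸ Y.basicOpen_le b) x hxa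
  refine (Function.Bijective.of_comp_iff' h2 _).mp ?_
  exact Eq.subst (motive := Function.Bijective)
    (funext fun q => (resLoc_trans hP hU hV (hU.basicOpen a) h (hab ▸ Y.basicOpen_le b) x hxa q).symm) h1

end Groth.Agent.GrModFrac
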