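import Groth.Agent.GrModFrac.ResLoc
import Groth.Agent.GrModFrac.QCoh
import Groth.Agent.QCohLib.FiniteType
import Groth.Prelude.Def_RelProj3

/-!
# Restriction of localized graded modules at a point of a relative `Proj`
-/

set_option autoImplicit false
universe u
open CategoryTheory CategoryTheory.Limits AlgebraicGeometry Opposite TopologicalSpace
open scoped HomogeneousIdeal
noncomputable section
open EGA2

namespace Groth.Agent.GrModFrac

section generic

variable {A B M N : Type u} [CommRing A] [CommRing B] [AddCommGroup M] [Module A M] [AddCommGroup N] [Module B N]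
  {φ : A →+* B} (v : M →ₛₗ[φ] N) (P : Submonoid A) (Q : Submonoid B) (hPQ : ∀ a ∈ P, φ a ∈ Q)

/-- The map of localized modules induced by a semilinear map. -/
def semilocMap : LocalizedModule P M →+ LocalizedModule Q N where
  toFun q := q.liftOn (fun t => LocalizedModule.mk (v t.1) ⟨φ t.2.1, hPQ _ t.2.2⟩) (fun t t' h => by
    obtain ⟨w, hw⟩ := h
    refine LocalizedModule.mk_eq.mpr ⟨⟨φ w.1, hPQ _ w.2⟩, ?_⟩
    have hw' := congrArg v hw
    simp only [Submonoid.smul_def, LinearMap.map_smulₛₗ] at hw' ⊢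
    exact hw')
  map_zero' := by
    rw [← LocalizedModule.zero_mk 1, LocalizedModule.liftOn_mk]
    simp [LocalizedModule.zero_mk]
  map_add' q q' := by
    induction q using LocalizedModule.induction_on with
    | h m s =>
      induction q' using LocalizedModule.induction_on with
      | h m' s' =>
        rw [LocalizedModule.mk_add_mk, LocalizedModule.liftOn_mk, LocalizedModule.liftOn_mk, LocalizedModule.liftOn_mk,
          LocalizedModule.mk_add_mk]
        simp only [map_add, Submonoid.smul_def, LinearMap.map_smulₛₗ]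
        congr 1
        exact Subtype.ext (map_mul φ _ _)

@[simp] theorem semilocMap_mk (m : M) (s : P) :
    semilocMap v P Q hPQ (LocalizedModule.mk m s) = LocalizedModule.mk (v m) ⟨φ s.1, hPQ _ s.2⟩ := rfl

end generic

variable {Y P : Scheme.{u}} {𝒮 : RelProj.QCGrAlg Y} {p : P ⟶ Y}
  {chart : ∀ (U : Y.Opens) (hU : IsAffineOpen U), (((p ⁻¹ᵁ U : P.Opens) : Scheme.{u}) ≅ Proj (𝒮.deg U hU))}
  (ℳ : RelProj.GrModule 𝒮)

theorem exists_res_eq_pow (hℳ : Coh.IsQCoh ((AMod.toOS 𝒮.toQCAlg).obj ℳ.mod)) (U : Y.Opens) (hU : IsAffineOpen U)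
    (r : Γ(Y, U)) (m : ℳ.mod.val.obj (op (Y.basicOpen r))) :
    ∃ (k : ℕ) (m' : ℳ.mod.val.obj (op U)), ℳ.res hU (hU.basicOpen r) (Y.basicOpen_le r) m' =
      𝒮.res hU (hU.basicOpen r) (Y.basicOpen_le r) ((𝒮.str.app (op U)).hom r) ^ k • m := by
  haveI : ((AMod.toOS 𝒮.toQCAlg).obj ℳ.mod).IsQuasicoherent := hℳ
  letI := QCohLib.resModule ((AMod.toOS 𝒮.toQCAlg).obj ℳ.mod) (Y.basicOpen_le r)
  haveI := QCohLib.isLocalizedModule_res ((AMod.toOS 𝒮.toQCAlg).obj ℳ.mod) hU r
  obtain ⟨⟨m', _, k, rfl⟩, hm⟩ := IsLocalizedModule.surj (Submonoid.powers r)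
    (QCohLib.resLinearMap ((AMod.toOS 𝒮.toQCAlg).obj ℳ.mod) (Y.basicOpen_le r)) m
  refine ⟨k, m', ?_⟩
  refine (hm.symm : _ = _).trans ?_
  change (𝒮.str.app (op (Y.basicOpen r))).hom ((Y.presheaf.map (homOfLE (Y.basicOpen_le r)).op).hom (r ^ k)) • m = _
  congr 1
  rw [map_pow, map_pow]
  congr 1
  exact ConcreteCategory.congr_hom (𝒮.str.naturality (homOfLE (Y.basicOpen_le r)).op) r

theorem exists_pow_smul_of_res_eq_zero (hℳ : Coh.IsQCoh ((AMod.toOS 𝒮.toQCAlg).obj ℳ.mod)) (U : Y.Opens)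
    (hU : IsAffineOpen U) (r : Γ(Y, U)) (m : ℳ.mod.val.obj (op U))
    (hm : ℳ.res hU (hU.basicOpen r) (Y.basicOpen_le r) m = 0) :
    ∃ k : ℕ, ((𝒮.str.app (op U)).hom r) ^ k • m = 0 := by
  haveI : ((AMod.toOS 𝒮.toQCAlg).obj ℳ.mod).IsQuasicoherent := hℳ
  letI := QCohLib.resModule ((AMod.toOS 𝒮.toQCAlg).obj ℳ.mod) (Y.basicOpen_le r)
  haveI := QCohLib.isLocalizedModule_res ((AMod.toOS 𝒮.toQCAlg).obj ℳ.mod) hU r
  obtain ⟨⟨_, k, rfl⟩, hk⟩ := (IsLocalizedModule.eq_zero_iff (Submonoid.powers r)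
    (QCohLib.resLinearMap ((AMod.toOS 𝒮.toQCAlg).obj ℳ.mod) (Y.basicOpen_le r)) (m := m)).mp hm
  refine ⟨k, ?_⟩
  rw [← map_pow]
  exact hk

/-- A homogeneous module element over a basic open lifts, up to a power of the function. -/
theorem exists_homog_liftM (hℳ : Coh.IsQCoh ((AMod.toOS 𝒮.toQCAlg).obj ℳ.mod)) (U : Y.Opens) (hU : IsAffineOpen U)
    (r : Γ(Y, U)) {i : ℕ} (a : ℳ.mod.val.obj (op (Y.basicOpen r))) (ha : a ∈ ℳ.deg _ (hU.basicOpen r) i) :
    ∃ (k : ℕ) (a' : ℳ.mod.val.obj (op U)), a' ∈ ℳ.deg U hU i ∧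
      ℳ.res hU (hU.basicOpen r) (Y.basicOpen_le r) a' =
        𝒮.res hU (hU.basicOpen r) (Y.basicOpen_le r) ((𝒮.str.app (op U)).hom r) ^ k • a := by
  classical
  let res := 𝒮.res hU (hU.basicOpen r) (Y.basicOpen_le r)
  let v := ℳ.res hU (hU.basicOpen r) (Y.basicOpen_le r)
  obtain ⟨k, c, hc⟩ := exists_res_eq_pow ℳ hℳ U hU r a
  refine ⟨k, (DirectSum.decompose (ℳ.deg U hU) c i : ℳ.mod.val.obj (op U)), (DirectSum.decompose _ c i).2, ?_⟩
  have hr : res ((𝒮.str.app (op U)).hom r) ^ k ∈ 𝒮.deg _ (hU.basicOpen r) 0 := by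
    have h0 := SetLike.pow_mem_graded k (res.map_mem (𝒮.str_mem U hU r))
    rwa [smul_zero] at h0
  have hmem : res ((𝒮.str.app (op U)).hom r) ^ k • a ∈ ℳ.deg _ (hU.basicOpen r) i := by
    have := SetLike.GradedSMul.smul_mem (B := ℳ.deg _ (hU.basicOpen r)) hr ha
    simpa using this
  have hc' : v c = res ((𝒮.str.app (op U)).hom r) ^ k • a := hc
  rw [← DirectSum.decompose_of_mem_same _ hmem, ← hc']
  conv_rhs => rw [← DirectSum.sum_support_decompose (ℳ.deg U hU) c, map_sum, DirectSum.decompose_sum,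
    DFinsupp.finsetSum_apply, AddSubmonoidClass.coe_finsetSum]
  rw [Finset.sum_eq_single i]
  · exact (DirectSum.decompose_of_mem_same _ (ℳ.res_mem hU _ _ i _ (DirectSum.decompose _ c i).2)).symm
  · intro j _ hj
    exact DirectSum.decompose_of_mem_ne _ (ℳ.res_mem hU _ _ j _ (DirectSum.decompose _ c j).2) hj
  · intro h
    rw [DFinsupp.notMem_support_iff.mp h]
    simp only [ZeroMemClass.coe_zero, map_zero]
    rw [DirectSum.decompose_zero]
    rfl

variable (hP : RelProj.IsRelProj 𝒮 p chart)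
include hP

/-- The map of localized modules at a point of the relative Proj induced by restriction. -/
def resLocM {U : Y.Opens} (hU : IsAffineOpen U) {V : Y.Opens} (hV : IsAffineOpen V) (h : V ≤ U)
    (x : P) (hx : p x ∈ V) :
    GrMod.LocMod (𝒮.deg U hU) (M := ℳ.mod.val.obj (op U)) (chartPt chart U hU x (h hx)) →+
      GrMod.LocMod (𝒮.deg V hV) (M := ℳ.mod.val.obj (op V)) (chartPt chart V hV x hx) :=
  semilocMap (ℳ.res hU hV h) _ _ fun a ha hc => ha ((chartPt_preimage hP U hU V hV h x hx).ge hc)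

theorem resLocM_mk {U : Y.Opens} (hU : IsAffineOpen U) {V : Y.Opens} (hV : IsAffineOpen V) (h : V ≤ U)
    (x : P) (hx : p x ∈ V) (a : ℳ.mod.val.obj (op U))
    (s : (chartPt chart U hU x (h hx)).asHomogeneousIdeal.toIdeal.primeCompl) :
    resLocM ℳ hP hU hV h x hx (LocalizedModule.mk a s) = LocalizedModule.mk (ℳ.res hU hV h a)
      (⟨𝒮.res hU hV h s.1, fun hc => s.2 ((chartPt_preimage hP U hU V hV h x hx).ge hc)⟩ :
        (chartPt chart V hV x hx).asHomogeneousIdeal.toIdeal.primeCompl) := rfl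

theorem resLocM_trans {U : Y.Opens} (hU : IsAffineOpen U) {V : Y.Opens} (hV : IsAffineOpen V) {W : Y.Opens}
    (hW : IsAffineOpen W) (h : V ≤ U) (h' : W ≤ V) (x : P) (hx : p x ∈ W)
    (q : GrMod.LocMod (𝒮.deg U hU) (M := ℳ.mod.val.obj (op U)) (chartPt chart U hU x (h (h' hx)))) :
    resLocM ℳ hP hV hW h' x hx (resLocM ℳ hP hU hV h x (h' hx) q) = resLocM ℳ hP hU hW (h'.trans h) x hx q := by
  induction q using LocalizedModule.induction_on with
  | h a s =>
    rw [resLocM_mk, resLocM_mk, resLocM_mk]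
    congr 1
    · simp only [RelProj.GrModule.res_apply]
      exact (PresheafOfModules.map_comp_apply ℳ.mod.val (homOfLE h).op (homOfLE h').op a).symm
    · refine Subtype.ext ?_
      simp only [RelProj.QCGrAlg.res_apply]
      rw [← CommRingCat.comp_apply, ← Functor.map_comp]
      rfl

theorem resLocM_bijective_basic (hℳ : Coh.IsQCoh ((AMod.toOS 𝒮.toQCAlg).obj ℳ.mod)) (U : Y.Opens) (hU : IsAffineOpen U)
    (r : Γ(Y, U)) (V : Y.Opens) (hV : IsAffineOpen V)
    (e : V = Y.basicOpen r) (h : V ≤ U) (x : P) (hx : p x ∈ V) : Function.Bijective (resLocM ℳ hP hU hV h x hx) := by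
  subst e
  letI := (𝒮.presheaf.map (homOfLE (Y.basicOpen_le r)).op).hom.toAlgebra
  haveI : IsLocalization.Away ((𝒮.str.app (op U)).hom r) (𝒮.presheaf.obj (op (Y.basicOpen r))) := 𝒮.isQC U hU r
  have hr := str_notMem hP U hU r x hx
  have hpow : ∀ k : ℕ, (𝒮.str.app (op U)).hom r ^ k ∉ (chartPt chart U hU x (h hx)).asHomogeneousIdeal :=
    fun k hc => hr ((chartPt chart U hU x (h hx)).isPrime.mem_of_pow_mem k hc)
  have hpre : ∀ c, 𝒮.res hU (hU.basicOpen r) h c ∈ (chartPt chart _ (hU.basicOpen r) x hx).asHomogeneousIdeal →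
      c ∈ (chartPt chart U hU x (h hx)).asHomogeneousIdeal := fun c hc =>
    (chartPt_preimage hP U hU _ (hU.basicOpen r) h x hx).ge hc
  have hlift : ∀ w, w ∉ (chartPt chart _ (hU.basicOpen r) x hx).asHomogeneousIdeal →
      ∃ (k : ℕ) (w' : _), w' ∉ (chartPt chart U hU x (h hx)).asHomogeneousIdeal ∧
        𝒮.res hU (hU.basicOpen r) h w' = w * 𝒮.res hU (hU.basicOpen r) h ((𝒮.str.app (op U)).hom r) ^ k := by
    intro w hw
    obtain ⟨k, w', hk⟩ := IsLocalization.Away.surj ((𝒮.str.app (op U)).hom r) w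
    refine ⟨k, w', fun hc => ?_, hk.symm⟩
    have h2 := (chartPt_preimage hP U hU _ (hU.basicOpen r) h x hx).le hc
    rw [Ideal.mem_comap] at h2
    rw [show (𝒮.res hU (hU.basicOpen r) h).toRingHom w' = _ from hk.symm] at h2
    rcases (chartPt chart _ (hU.basicOpen r) x hx).isPrime.mem_or_mem h2 with h3 | h3
    · exact hw h3
    · exact hpow k (hpre _ (by rw [map_pow]; exact h3))
  refine ⟨(injective_iff_map_eq_zero _).mpr fun q hq => ?_, fun q => ?_⟩
  · induction q using LocalizedModule.induction_on with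
    | h a s =>
      rw [resLocM_mk, ← LocalizedModule.zero_mk 1, LocalizedModule.mk_eq] at hq
      obtain ⟨⟨w, hw⟩, hwa⟩ := hq
      simp only [Submonoid.smul_def, OneMemClass.coe_one, one_smul, smul_zero] at hwa
      obtain ⟨k, w', hw', hk⟩ := hlift w hw
      have h0 : ℳ.res hU (hU.basicOpen r) h (w' • a) = 0 := by
        rw [LinearMap.map_smulₛₗ]
        show 𝒮.res hU (hU.basicOpen r) h w' • _ = 0
        rw [hk, mul_comm, mul_smul, hwa, smul_zero]
      obtain ⟨m, hm⟩ := exists_pow_smul_of_res_eq_zero ℳ hℳ U hU r _ h0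
      rw [← LocalizedModule.zero_mk 1, LocalizedModule.mk_eq]
      refine ⟨⟨(𝒮.str.app (op U)).hom r ^ m * w', fun hc =>
        ((chartPt chart U hU x (h hx)).isPrime.mem_or_mem hc).elim (hpow m) hw'⟩, ?_⟩
      simp only [Submonoid.smul_def, OneMemClass.coe_one, one_smul, smul_zero]
      rw [mul_smul]
      exact hm
  · induction q using LocalizedModule.induction_on with
    | h a t =>
      obtain ⟨s, hs⟩ := t
      obtain ⟨i, a', ha⟩ := exists_res_eq_pow ℳ hℳ U hU r a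
      obtain ⟨j, s', hs', hj⟩ := hlift s hs
      refine ⟨LocalizedModule.mk ((𝒮.str.app (op U)).hom r ^ j • a') ⟨s' * (𝒮.str.app (op U)).hom r ^ i,
        fun hc => ((chartPt chart U hU x (h hx)).isPrime.mem_or_mem hc).elim hs' (hpow i)⟩, ?_⟩
      rw [resLocM_mk, LocalizedModule.mk_eq]
      refine ⟨1, ?_⟩
      simp only [Submonoid.smul_def, OneMemClass.coe_one, one_smul]
      rw [LinearMap.map_smulₛₗ]
      show s • ((𝒮.res hU (hU.basicOpen r) h ((𝒮.str.app (op U)).hom r ^ j)) • _) =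
        𝒮.res hU (hU.basicOpen r) h (s' * (𝒮.str.app (op U)).hom r ^ i) • a
      rw [ha, map_mul, map_pow, map_pow, hj, smul_smul, smul_smul]

theorem resLocM_bijective (hℳ : Coh.IsQCoh ((AMod.toOS 𝒮.toQCAlg).obj ℳ.mod)) {U : Y.Opens} (hU : IsAffineOpen U)
    {V : Y.Opens} (hV : IsAffineOpen V) (h : V ≤ U) (x : P) (hx : p x ∈ V) :
    Function.Bijective (resLocM ℳ hP hU hV h x hx) := by
  obtain ⟨a, b, hab, hxa⟩ := exists_basicOpen_le_affine_inter hU hV (p x) ⟨h hx, hx⟩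
  have h1 := resLocM_bijective_basic ℳ hP hℳ U hU a _ (hU.basicOpen a) rfl (Y.basicOpen_le a) x hxa
  have h2 := resLocM_bijective_basic ℳ hP hℳ V hV b _ (hU.basicOpen a) hab (hab ▸ Y.basicOpen_le b) x hxa
  refine (Function.Bijective.of_comp_iff' h2 _).mp ?_
  exact Eq.subst (motive := Function.Bijective)
    (funext fun q => (resLocM_trans ℳ hP hU hV (hU.basicOpen a) h (hab ▸ Y.basicOpen_le b) x hxa q).symm) h1

end Groth.Agent.GrModFrac
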